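import Cfsg.Agent.Lib.HeckeU.Unique
import Cfsg.Agent.Lib.ChevBN.Facts
import Cfsg.Agent.Lib.ChevBN.Steinberg
import Cfsg.Agent.Lib.ChevOrder.CardU
import Cfsg.Agent.Lib.ChevOrder.Index
import Cfsg.Agent.Lib.ChevOrder.Assembly

/-!
# The Chevalley groups satisfy the hypotheses of `HeckeU.Data`

* `card_diag_coprime`, `hecke_data` : the data for `chevRGD`;
* `not_dvd_index` : `U` is a Sylow subgroup;
* `unique_defect_zero`.
-/

set_option autoImplicit false

namespace Cfsg.Agent.HeckeU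

open Cfsg.Lie Cfsg.Lie.ChevalleyDatum Cfsg.Agent.Chev Cfsg.Agent.ChevSt Cfsg.Agent.ChevBN Cfsg.Agent.BN

variable {D : ChevalleyDatum} (hD : Good D) {F : Type*} [Field F]

include hD

theorem diag_pow_eq_one [Fintype F] {h : GL D.Idx F} (hh : h ∈ D.diagonalSubgroup F) :
    h ^ (Fintype.card F - 1) = 1 := by
  obtain ⟨χ, hχ, -⟩ := isToral_of_mem hD hh
  apply Units.ext
  rw [Units.val_pow_eq_pow_val, hχ, ChevBN.dg, Matrix.diagonal_pow, Units.val_one, ← Matrix.diagonal_one]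
  congr 1
  funext a
  rcases a with i | s
  · simp
  · simp [FiniteField.pow_card_sub_one_eq_one _ (Units.ne_zero (χ s))]

theorem not_dvd_card_diag [Fintype F] (p : ℕ) [Fact p.Prime] [CharP F p] :
    ¬ p ∣ Nat.card (D.diagonalSubgroup F) := by
  intro h
  obtain ⟨⟨x, hx⟩, hxo⟩ := exists_prime_orderOf_dvd_card' p h
  rw [Subgroup.orderOf_mk] at hxo
  have h1 : p ∣ Fintype.card F - 1 := hxo ▸ orderOf_dvd_of_pow_eq_one (diag_pow_eq_one hD hx)
  obtain ⟨k, -, hk⟩ := FiniteField.card F p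
  have h2 : p ∣ Fintype.card F := hk ▸ dvd_pow_self p k.pos.ne'
  have h3 : 1 ≤ Fintype.card F := Fintype.card_pos
  have := Nat.dvd_sub h2 h1
  rw [show Fintype.card F - (Fintype.card F - 1) = 1 by omega] at this
  exact (Fact.out : p.Prime).not_dvd_one this

variable {M : List (List ℤ)} {d : ℤ} (hR : Roots D M d)

include hR

theorem conj_Upos {b : GL D.Idx F} (hb : b ∈ (chevRGD hD hR F).B) {u : GL D.Idx F}
    (hu : u ∈ (chevRGD hD hR F).Upos) : b * u * b⁻¹ ∈ (chevRGD hD hR F).Upos := by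
  obtain ⟨v, hv, h, hh, rfl⟩ := (chevRGD hD hR F).exists_B hb
  have h1 : h * u * h⁻¹ ∈ (chevRGD hD hR F).Upos := (chevRGD hD hR F).H_conj_span _ hh u hu
  rw [show v * h * u * (v * h)⁻¹ = v * (h * u * h⁻¹) * v⁻¹ by group]
  exact mul_mem (mul_mem hv h1) (inv_mem hv)

/-- The index of `B ∩ sBs⁻¹` in `B`. -/
theorem relIndex_simple [Fintype F] (hS : ChevOrder.SimpleOK D) {s : (chevRGD hD hR F).G}
    (hs : s ∈ (chevRGD hD hR F).bnPair.S) :
    ((chevRGD hD hR F).bnPair.B.map (MulAut.conj s).toMonoidHom).relIndex (chevRGD hD hR F).bnPair.B =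
      Fintype.card F := by
  set R := chevRGD hD hR F
  obtain ⟨i, rfl⟩ := hs
  rw [← Subgroup.relIndex_map_map_of_injective _ _ R.G.subtype_injective, Subgroup.map_map,
    ← Nat.card_eq_fintype_card, ← ChevOrder.relIndex_borel_conj (F := F) hD hS i.isLt]
  have hB : R.bnPair.B.map R.G.subtype = D.borelSubgroup F := by
    rw [R.bnPair_B, Subgroup.map_subgroupOf_eq_of_le R.B_le_G, chev_B hD hR]
  rw [show R.G.subtype.comp (MulAut.conj (R.nG i)).toMonoidHom =
    ((MulAut.conj (ChevOrder.nu (F := F) hD (D.simple i.val) 1)).toMonoidHom).comp R.G.subtype by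
      refine MonoidHom.ext fun x => ?_
      have e : ((R.nG i : R.G) : GL D.Idx F) = ChevOrder.nu (F := F) hD (D.simple i.val) 1 :=
        Units.ext ((coe_ng hD _ _).trans (ChevOrder.coe_nu hD _ _).symm)
      simp [e], ← Subgroup.map_map, hB]

theorem card_Upos_subgroupOf :
    Nat.card ((chevRGD hD hR F).Upos.subgroupOf (chevRGD hD hR F).G) = Nat.card F ^ (D.nroots / 2) := by
  rw [Nat.card_congr (Subgroup.subgroupOfEquivOfLe
    ((chevRGD hD hR F).Upos_le_B.trans (chevRGD hD hR F).B_le_G)).toEquiv, chev_Upos hD hR,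
    ChevOrder.card_posUnipotent hD]

theorem not_dvd_index [Fintype F] (hS : ChevOrder.SimpleOK D) (p : ℕ) [Fact p.Prime] [CharP F p] :
    ¬ p ∣ ((chevRGD hD hR F).Upos.subgroupOf (chevRGD hD hR F).G).index := by
  set R := chevRGD hD hR F
  letI := Fintype.ofFinite (Weyl R.bnPair)
  have hUG : R.Upos ≤ R.G := R.Upos_le_B.trans R.B_le_G
  have hcard := ChevOrder.card_eq_sum R.bnPair fun s hs => relIndex_simple hD hR hS hs
  rw [R.bnPair_B, Nat.card_congr (Subgroup.subgroupOfEquivOfLe R.B_le_G).toEquiv] at hcard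
  have hB : Nat.card R.B = Nat.card R.Upos * Nat.card R.H := by
    rw [chev_B hD hR, chev_Upos hD hR]
    exact ChevOrder.card_borel hD
  rw [hB, ← Subgroup.card_mul_index (R.Upos.subgroupOf R.G),
    Nat.card_congr (Subgroup.subgroupOfEquivOfLe hUG).toEquiv, mul_assoc] at hcard
  rw [Nat.eq_of_mul_eq_mul_left Nat.card_pos hcard]
  intro h
  rcases (Fact.out : p.Prime).dvd_mul.1 h with h | h
  · exact not_dvd_card_diag hD p h
  · classical
    obtain ⟨k, -, hk⟩ := FiniteField.card F p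
    have h2 : p ∣ Fintype.card F := hk ▸ dvd_pow_self p k.pos.ne'
    rw [← Finset.sum_erase_add _ _ (Finset.mem_univ (1 : Weyl R.bnPair)),
      show len R.bnPair (1 : Weyl R.bnPair) = 0 from wlen_one, pow_zero] at h
    have h3 : p ∣ ∑ w ∈ (Finset.univ : Finset (Weyl R.bnPair)).erase 1, Fintype.card F ^ len R.bnPair w :=
      Finset.dvd_sum fun w hw => h2.trans (dvd_pow_self _ fun h0 =>
        Finset.ne_of_mem_erase hw (wlen_eq_zero (sigma_sq R.bnPair) (closure_sigma R.bnPair) h0))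
    exact (Fact.out : p.Prime).not_dvd_one ((Nat.dvd_add_right h3).1 h)

theorem bnPair_inter :
    (chevRGD hD hR F).bnPair.B ⊓ (chevRGD hD hR F).bnPair.N =
      (chevRGD hD hR F).H.subgroupOf (chevRGD hD hR F).G := by
  set R := chevRGD hD hR F
  rw [R.bnPair_B, R.bnPair_N, ← R.B_inf_N]
  ext x
  simp [Subgroup.mem_subgroupOf]

theorem hecke_data [Fintype F] (hS : ChevOrder.SimpleOK D) (p : ℕ) [Fact p.Prime] [CharP F p] :
    Data (chevRGD hD hR F).bnPair ((chevRGD hD hR F).Upos.subgroupOf (chevRGD hD hR F).G) p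
      (Fintype.card F) := by
  set R := chevRGD hD hR F
  obtain ⟨k, hp, hk⟩ := FiniteField.card F p
  refine ⟨Fact.out, fun x hx => ?_, ?_, not_dvd_index hD hR hS p, fun b hb u hu => ?_, fun b hb => ?_,
    fun a ha b hb => ?_, hk ▸ dvd_pow_self p k.pos.ne', fun s hs => relIndex_simple hD hR hS hs⟩
  · exact R.Upos_le_B hx
  · refine IsPGroup.of_card (n := (k : ℕ) * (D.nroots / 2)) ?_
    rw [card_Upos_subgroupOf hD hR, Nat.card_eq_fintype_card, hk, ← pow_mul]
  · exact conj_Upos hD hR hb hu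
  · obtain ⟨u, hu, h, hh, e⟩ := R.exists_B (show (b : GL D.Idx F) ∈ R.B from hb)
    refine ⟨⟨u, R.B_le_G (R.Upos_le_B hu)⟩, hu, ⟨h, R.B_le_G (R.H_le_B hh)⟩, ?_, Subtype.ext e⟩
    rw [bnPair_inter hD hR]
    exact hh
  · rw [bnPair_inter hD hR] at ha hb
    exact Subtype.ext (diag_commute hD ha hb)

theorem card_Upos_eq_pow_w0 [Fintype F] (hS : ChevOrder.SimpleOK D) (p : ℕ) [Fact p.Prime] [CharP F p] :
    Nat.card ((chevRGD hD hR F).Upos.subgroupOf (chevRGD hD hR F).G) =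
      Fintype.card F ^ len (chevRGD hD hR F).bnPair (w0 (chevRGD hD hR F).bnPair) := by
  set R := chevRGD hD hR F
  obtain ⟨l, hl⟩ := exists_long hD hR (F := F)
  obtain ⟨n, hn, hnN, hmap, hC⟩ := R.exists_long_rep hl
  have hd := hecke_data hD hR hS p (F := F)
  have horb := hd.orb_of_N hnN
  rw [show BN.wOf R.bnPair hnN = w0 R.bnPair from C_unique R.bnPair (self_mem_C R.bnPair hnN) hC] at horb
  rw [← horb, orb, Nat.card_congr (MulAction.orbitEquivQuotientStabilizer _ _)]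
  have hstab : MulAction.stabilizer (R.Upos.subgroupOf R.G) (n : R.G ⧸ R.Upos.subgroupOf R.G) = ⊥ := by
    refine eq_bot_iff.2 fun u hu => ?_
    rw [MulAction.mem_stabilizer_iff] at hu
    change ((((u : R.G) * n : R.G)) : R.G ⧸ R.Upos.subgroupOf R.G) = (n : R.G ⧸ R.Upos.subgroupOf R.G) at hu
    have h1 := QuotientGroup.eq.1 hu.symm
    have h2 : (n : GL D.Idx F)⁻¹ * (u : R.G) * n ∈ R.B ⊓ R.Vneg := by
      refine Subgroup.mem_inf.2 ⟨R.Upos_le_B ?_, ?_⟩
      · have h1' : ((n⁻¹ * ((u : R.G) * n) : R.G) : GL D.Idx F) ∈ R.Upos := h1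
        simpa [mul_assoc] using h1'
      · rw [← hmap, hn]
        exact ⟨(u : R.G), u.2, by simp [MulAut.conj_apply]⟩
    rw [show R.B ⊓ R.Vneg = ⊥ from R.B_inf_V, Subgroup.mem_bot] at h2
    refine Subgroup.mem_bot.2 (Subtype.ext (Subtype.ext ?_))
    calc ((u : R.G) : GL D.Idx F) = (n : GL D.Idx F) * ((n : GL D.Idx F)⁻¹ * (u : R.G) * n) * (n : GL D.Idx F)⁻¹ := by group
      _ = 1 := by rw [h2]; group
  rw [← Subgroup.index_eq_card, hstab, Subgroup.index_bot]

omit hR in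
theorem hg_one (r : ℕ) : hg hD F r 1 = 1 := by
  rw [hg, ← ng_inv, mul_inv_cancel]

theorem gen_torus : GenTorus (chevRGD hD hR F).bnPair
    ((chevRGD hD hR F).Upos.subgroupOf (chevRGD hD hR F).G) := by
  set R := chevRGD hD hR F with hRdef
  intro lam hmul hone hinv hrel
  rw [bnPair_inter hD hR] at hmul hinv hrel ⊢
  have memG : ∀ {r : ℕ}, r < D.nroots → ∀ {t : F}, t ≠ 0 → hg hD F r t ∈ R.H := fun hr _ ht =>
    Subgroup.subset_closure ⟨_, _, hr, ht, coe_hg hD _ _⟩
  let ν : {g : GL D.Idx F // g ∈ R.H} → ℂ := fun g => lam ⟨g.1, R.B_le_G (R.H_le_B g.2)⟩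
  let μ : GL D.Idx F → ℂ := fun g => open Classical in if h : g ∈ R.H then ν ⟨g, h⟩ else 0
  have hμ : ∀ {g : GL D.Idx F} (h : g ∈ R.H), μ g = lam ⟨g, R.B_le_G (R.H_le_B h)⟩ := fun h => by
    simp [μ, ν, h]
  have hμmul : ∀ {a b : GL D.Idx F}, a ∈ R.H → b ∈ R.H → μ (a * b) = μ a * μ b := by
    intro a b ha hb
    rw [hμ (mul_mem ha hb), hμ ha, hμ hb]
    exact hmul ⟨a, R.B_le_G (R.H_le_B ha)⟩ ha ⟨b, R.B_le_G (R.H_le_B hb)⟩ hb
  have hμone : μ 1 = 1 := by rw [hμ (one_mem _)]; exact hone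
  have hμinv : ∀ i : Fin D.rank, ∀ {a : GL D.Idx F}, a ∈ R.H → μ (R.n i * a * (R.n i)⁻¹) = μ a := by
    intro i a ha
    rw [hμ (R.n_conj_H i a ha), hμ ha]
    exact hinv (R.nG i) (R.n_mem_N i) ⟨a, R.B_le_G (R.H_le_B ha)⟩ ha
  -- the coroots of the fundamental roots
  have hsimple : ∀ i : Fin D.rank, ∀ w : F, w ≠ 0 → μ (hg hD F (D.simple i.val) w) = 1 := by
    intro i
    obtain ⟨z, hz⟩ := hrel (R.nG i) ⟨i, rfl⟩
    set α := D.simple i.val with hα
    have hαlt := hD.simple_lt i.val i.isLt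
    set N := ng hD F α 1 with hN
    have hNN : N * N ∈ R.H := R.n_sq i
    have hσ : (nSign D α α : F) ≠ 0 := by
      rcases (nSign_cases hD hαlt hαlt).1 with h | h <;> rw [h] <;> simp
    have hwα : wN D i.val α = D.neg α := by simp [wN, Chev.refl, α]
    have key : ∀ v : F, v ≠ 0 → z = μ (hg hD F α (-v⁻¹)) * μ (N * N) := by
      intro v hv
      set t := (nSign D α α : F)⁻¹ * v with ht
      have hin : N⁻¹ * hg hD F α (-v⁻¹) * N ∈ R.H :=
        R.n_conj_H' i (memG hαlt (neg_ne_zero.2 (inv_ne_zero hv)))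
      set h := N⁻¹ * hg hD F α (-v⁻¹) * N * (N * N) with hh
      have hhH : h ∈ R.H := mul_mem hin hNN
      have hxU : ∀ w : F, xg hD F α w ∈ R.Upos := fun w =>
        R.U_le_Upos (r := R.simple i) (R.pos_simple i) (xg_mem_rootSubgroup hD _ w)
      have hconj : N * xg hD F α t * N⁻¹ = xg hD F α v⁻¹ * hg hD F α (-v⁻¹) * N * xg hD F α v⁻¹ := by
        rw [hN, hα, ng_conj_xg hD i.isLt hαlt, hwα, ht, mul_inv_cancel_left₀ hσ]
        have e1 : hg hD F α (-v⁻¹) * ng hD F α 1 = ng hD F α (-v⁻¹) := by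
          rw [hg, mul_assoc, show ng hD F α 1 = (ng hD F α (-1))⁻¹ by rw [ng_inv, _root_.neg_neg],
            mul_inv_cancel, mul_one]
        rw [mul_assoc (xg hD F α v⁻¹), e1, ng,
          show (-(-v⁻¹)⁻¹ : F) = v by rw [inv_neg, inv_inv, _root_.neg_neg],
          ← mul_assoc, ← mul_assoc, xg_add hD hαlt, add_neg_cancel, xg_zero, one_mul, mul_assoc,
          xg_add hD hαlt, neg_add_cancel, xg_zero, mul_one]
      have e2 : N * xg hD F α t * N = xg hD F α v⁻¹ * (N * h) * ((N * N)⁻¹ * xg hD F α v⁻¹ * (N * N)) := by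
        have : N * xg hD F α t * N = N * xg hD F α t * N⁻¹ * (N * N) := by group
        rw [this, hconj, hh]
        group
      have hU' : (N * N)⁻¹ * xg hD F α v⁻¹ * (N * N) ∈ R.Upos := by
        have := conj_Upos hD hR (R.H_le_B (inv_mem hNN)) (hxU v⁻¹)
        simpa using this
      have hGU : ∀ {x : GL D.Idx F}, x ∈ R.Upos → x ∈ R.G := fun hx => R.B_le_G (R.Upos_le_B hx)
      have hμh : μ h = z := by
        rw [hμ hhH]
        exact hz ⟨xg hD F α t, hGU (hxU t)⟩ (hxU t) ⟨h, R.B_le_G (R.H_le_B hhH)⟩ hhH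
          (DoubleCoset.mem_doubleCoset.2 ⟨⟨_, hGU (hxU v⁻¹)⟩, hxU v⁻¹, ⟨_, hGU hU'⟩, hU', Subtype.ext e2⟩)
      have e3 : μ (N⁻¹ * hg hD F α (-v⁻¹) * N) = μ (hg hD F α (-v⁻¹)) := by
        rw [← hμinv i hin, show R.n i * (N⁻¹ * hg hD F α (-v⁻¹) * N) * (R.n i)⁻¹ = hg hD F α (-v⁻¹) by
          show N * _ * N⁻¹ = _
          group]
      rw [← hμh, hh, hμmul hin hNN, e3]
    intro w hw
    have h1 := key (-1) (neg_ne_zero.2 one_ne_zero)
    have h2 := key (-w⁻¹) (neg_ne_zero.2 (inv_ne_zero hw))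
    rw [inv_neg, inv_one, _root_.neg_neg, hg_one hD, hμone, one_mul] at h1
    rw [inv_neg, inv_inv, _root_.neg_neg, h1] at h2
    have hne : μ (N * N) ≠ 0 := by
      intro h0
      have := hμmul hNN (inv_mem hNN)
      rw [mul_inv_cancel, hμone, h0, zero_mul] at this
      exact one_ne_zero this
    exact mul_right_cancel₀ hne (by rw [one_mul]; exact h2.symm)
  -- transport to every root
  have hstep : ∀ i : Fin D.rank, ∀ r < D.nroots, (∀ w : F, w ≠ 0 → μ (hg hD F r w) = 1) →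
      ∀ w : F, w ≠ 0 → μ (hg hD F (wN D i.val r) w) = 1 := by
    intro i r hr h
    set σ : F := (nSign D (D.simple i.val) r : F) with hσd
    have hσ : σ = 1 ∨ σ = -1 := by
      rcases (nSign_cases hD (hD.simple_lt i.val i.isLt) hr).1 with e | e <;> simp [σ, e]
    set r' := wN D i.val r with hr'
    have hw' : r' < D.nroots := refl_lt hD (hD.simple_lt i.val i.isLt) hr
    have hσ0 : σ ≠ 0 := by rcases hσ with e | e <;> simp [e]
    have hrel : ∀ t : F, t ≠ 0 → μ (hg hD F r' (σ * t)) = μ (hg hD F r' σ) := by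
      intro t ht
      have e : R.n i * hg hD F r t * (R.n i)⁻¹ * hg hD F r' σ = hg hD F r' (σ * t) := by
        show ng hD F (D.simple i.val) 1 * _ * (ng hD F (D.simple i.val) 1)⁻¹ * _ = _
        rw [hg, show ∀ a b c : GL D.Idx F, a * (b * c) * a⁻¹ = (a * b * a⁻¹) * (a * c * a⁻¹) from
            fun a b c => by group,
          ng_conj_ng hD hR i.isLt hr, ng_conj_ng hD hR i.isLt hr, mul_neg, mul_one, ← hσd, hg, hg, ← hr']
        rw [mul_assoc, ← mul_assoc (ng hD F r' (-σ)), ← ng_inv, inv_mul_cancel, one_mul]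
      have := hμmul (R.n_conj_H i _ (memG hr ht)) (memG hw' hσ0)
      rw [e, hμinv i (memG hr ht), h t ht, one_mul] at this
      exact this
    have hone' : μ (hg hD F r' σ) = 1 := by
      have := hrel σ hσ0
      rw [show σ * σ = 1 by rcases hσ with e | e <;> simp [e], hg_one hD, hμone] at this
      exact this.symm
    intro w hw
    have := hrel (σ⁻¹ * w) (mul_ne_zero (inv_ne_zero hσ0) hw)
    rw [mul_inv_cancel_left₀ hσ0, hone'] at this
    exact this
  have hroot : ∀ r < D.nroots, ∀ w : F, w ≠ 0 → μ (hg hD F r w) = 1 := by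
    have hpos : ∀ r < D.nroots, D.IsPosRoot r → (∀ w : F, w ≠ 0 → μ (hg hD F r w) = 1) ∧
        ∀ w : F, w ≠ 0 → μ (hg hD F (D.neg r) w) = 1 := fun r hr hp => by
      have := hR.pos_induction hD (P := fun r => r < D.nroots ∧ (∀ w : F, w ≠ 0 → μ (hg hD F r w) = 1) ∧
          ∀ w : F, w ≠ 0 → μ (hg hD F (D.neg r) w) = 1)
        (fun i hi => ⟨hD.simple_lt i hi, hsimple ⟨i, hi⟩, by
          have h := hstep ⟨i, hi⟩ _ (hD.simple_lt i hi) (hsimple ⟨i, hi⟩)
          simpa [wN, Chev.refl] using h⟩)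
        (fun i hi r' hr' e => ⟨refl_lt hD (hD.simple_lt i hi) hr', hstep ⟨i, hi⟩ r' hr' e.2.1, by
          rw [← hR.refl_neg hD hi hr']
          exact hstep ⟨i, hi⟩ _ (hD.neg_lt r' hr') e.2.2⟩) hr hp
      exact this.2
    intro r hr
    by_cases hp : D.IsPosRoot r
    · exact (hpos r hr hp).1
    · have := (hpos _ (hD.neg_lt r hr) ((pos_or_neg hD hr).2 hp)).2
      rwa [hD.neg_neg r hr] at this
  intro h hh
  have : μ (h : GL D.Idx F) = 1 := by
    have hh' : (h : GL D.Idx F) ∈ R.H := hh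
    clear hh
    generalize (h : GL D.Idx F) = g at hh'
    induction hh' using Subgroup.closure_induction with
    | mem x hx =>
      obtain ⟨r, t, hr, ht, e⟩ := hx
      obtain rfl : x = hg hD F r t := Units.ext (e.trans (coe_hg hD r t).symm)
      exact hroot r hr t ht
    | one => exact hμone
    | mul x y hx hy hx' hy' => rw [hμmul hx hy, hx', hy', one_mul]
    | inv x hx hx' =>
      have := hμmul hx (inv_mem hx)
      rw [mul_inv_cancel, hμone, hx', one_mul] at this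
      exact this.symm
  exact (hμ (show (h : GL D.Idx F) ∈ R.H from hh)).symm.trans this

/-- The Steinberg character is the only irreducible character of `p`-defect zero. -/
theorem unique_defect_zero [Fintype F] (hS : ChevOrder.SimpleOK D) (p : ℕ) [Fact p.Prime] [CharP F p]
    (χ : ↥(D.group F) → ℂ) (hχ : IsIrrCharacter ↥(D.group F) χ)
    (hdeg : ∃ d : ℕ, χ 1 = (d : ℂ) ∧ p ^ (Nat.card ↥(D.group F)).factorization p ∣ d) :
    χ = D.steinbergCharacter F := by
  obtain ⟨h1, h2, -, -⟩ := steinberg_facts hD hR (F := F)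
  rw [← chev_Upos hD hR] at h2
  generalize D.steinbergCharacter F = ψ at h1 h2 ⊢
  set R := chevRGD hD hR F with hRdef
  have key : ∀ K : Subgroup (GL D.Idx F), R.G = K → ∀ χ ψ : K → ℂ, IsIrrCharacter K χ → IsIrrCharacter K ψ →
      (∃ d : ℕ, χ 1 = (d : ℂ) ∧ p ^ (Nat.card K).factorization p ∣ d) → ψ 1 = (Nat.card R.Upos : ℂ) → χ = ψ := by
    rintro _ rfl χ ψ hχ hψ ⟨d, hd1, hd2⟩ hψ1
    letI := Fintype.ofFinite R.G
    have hd := hecke_data hD hR hS p (F := F)
    have hUe : Nat.card (R.Upos.subgroupOf R.G) = Nat.card R.Upos :=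
      Nat.card_congr (Subgroup.subgroupOfEquivOfLe (R.Upos_le_B.trans R.B_le_G)).toEquiv
    refine eq_of_defect_zero hd (card_Upos_eq_pow_w0 hD hR hS p) (gen_torus hD hR) hχ hψ ⟨d, hd1, ?_⟩
      ⟨Nat.card R.Upos, hψ1, hUe ▸ dvd_rfl⟩
    obtain ⟨k, hk⟩ := IsPGroup.iff_card.1 hd.pgroup
    rw [factorization_card hd, hk, Nat.Prime.factorization_pow (Fact.out : p.Prime), Finsupp.single_eq_same] at hd2
    rwa [hk]
  exact key _ (chev_G hD hR) χ ψ hχ h1 hdeg h2

end Cfsg.Agent.HeckeU
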