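import Cfsg.Agent.Lib.HeckeU.Unipotent
import Cfsg.Agent.Lib.BN.Kilmoyer
import Cfsg.Agent.Lib.Coprime.Invariant
import Cfsg.Agent.Lib.PLocal.Basic
import Cfsg.Agent.Lib.Char.PRegular
import Cfsg.Agent.Lib.Char.Integral

/-!
# The Steinberg character on a parabolic subgroup, and its values at semisimple elements

* `sum_translate` : `∑_{u ∈ U_K} St (u x) = |U_K| St_K (x)` for `x ∈ P_K`;
* `stZ_parab` : hence `St x = |C_{U_K} x| St_K (x)` for `x` of order prime to `p`;
* `stZ_semisimple` : `St g = ± |C g|_p`.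
-/

set_option autoImplicit false

namespace Cfsg.Agent.HeckeU

open Cfsg Cfsg.Agent.BN Cfsg.Agent.ChevOrder Cfsg.Agent.Char Finset

variable {G : Type*} [Group G]

/-- An element of order prime to `p` in the coset `V x` is conjugate to `x` under `V`. -/
theorem exists_conj_of_coset [Finite G] {p : ℕ} (hp : p.Prime) {V : Subgroup G} (hV : IsPGroup p V) {x u : G}
    (hx : ¬ p ∣ orderOf x) (hxV : x ∈ Subgroup.normalizer (V : Set G)) (hu : u ∈ V)
    (hux : ¬ p ∣ orderOf (u * x)) : ∃ w ∈ V, u * x = w * x * w⁻¹ := by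
  haveI : Fact p.Prime := ⟨hp⟩
  obtain ⟨k, hk⟩ := IsPGroup.iff_card.1 hV
  have hdvd : ∀ y ∈ Subgroup.normalizer (V : Set G), ∀ v ∈ V, ¬ p ∣ orderOf (v * y) →
      orderOf (v * y) ∣ orderOf y := by
    intro y hy v hv hvy
    have h : ∀ n, ∃ z ∈ V, (v * y) ^ n = z * y ^ n := by
      intro n
      induction n with
      | zero => exact ⟨1, one_mem _, by simp⟩
      | succ n ih =>
        obtain ⟨z, hz, e⟩ := ih
        refine ⟨z * (y ^ n * v * (y ^ n)⁻¹),
          mul_mem hz ((Subgroup.mem_normalizer_iff.1 (pow_mem hy n) v).1 hv), ?_⟩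
        rw [pow_succ, e, pow_succ]; group
    obtain ⟨z, hz, e⟩ := h (orderOf y)
    rw [pow_orderOf_eq_one, mul_one] at e
    have h1 : (v * y) ^ (orderOf y * p ^ k) = 1 := by
      rw [pow_mul, e, ← hk]
      exact congrArg Subtype.val (pow_card_eq_one' (x := (⟨z, hz⟩ : V)))
    exact (((hp.coprime_iff_not_dvd.2 hvy).symm).pow_right k).dvd_of_dvd_mul_right (orderOf_dvd_of_pow_eq_one h1)
  have hord : orderOf (u * x) = orderOf x := Nat.dvd_antisymm (hdvd x hxV u hu hux) (by
    have := hdvd (u * x) (mul_mem (Subgroup.le_normalizer hu) hxV) u⁻¹ (inv_mem hu) (by rwa [inv_mul_cancel_left])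
    rwa [inv_mul_cancel_left] at this)
  have hcop : (orderOf x).Coprime (p ^ k) := ((hp.coprime_iff_not_dvd.2 hx).symm).pow_right k
  obtain ⟨w, hw, hwL⟩ := Coprime.exists_conj_eq_of_le_sup (N := V) (H := Subgroup.zpowers x)
    (L := Subgroup.zpowers (u * x)) (Subgroup.zpowers_le.2 hxV) (by rwa [Nat.card_zpowers, hk])
    (Or.inr (by haveI := hV.isNilpotent; infer_instance))
    (Subgroup.zpowers_le.2 (mul_mem (Subgroup.mem_sup_left hu) (Subgroup.mem_sup_right (Subgroup.mem_zpowers x))))
    (by rw [Nat.card_zpowers, Nat.card_zpowers, hord])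
  refine ⟨w, hw, ?_⟩
  have h1 : w * x * w⁻¹ ∈ Subgroup.zpowers (u * x) := by
    rw [← hwL]
    have := Subgroup.smul_mem_pointwise_smul x (MulAut.conj w) _ (Subgroup.mem_zpowers x)
    simpa [MulAut.conj_apply] using this
  set e := w * x * w⁻¹ * (u * x)⁻¹ with he
  have heV : e ∈ V := by
    rw [show e = w * (x * w⁻¹ * x⁻¹) * u⁻¹ by rw [he]; group]
    exact mul_mem (mul_mem hw ((Subgroup.mem_normalizer_iff.1 hxV _).1 (inv_mem hw))) (inv_mem hu)
  have heL : e ∈ Subgroup.zpowers (u * x) := mul_mem h1 (inv_mem (Subgroup.mem_zpowers _))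
  have d1 : orderOf e ∣ p ^ k := by
    rw [← hk]; exact Subgroup.orderOf_dvd_natCard V heV
  have d2 : orderOf e ∣ orderOf x := by
    have := Subgroup.orderOf_dvd_natCard _ heL
    rwa [Nat.card_zpowers, hord] at this
  have he1 : e = 1 := orderOf_eq_one_iff.1 (Nat.eq_one_of_dvd_coprimes hcop d2 d1)
  rw [he, mul_inv_eq_one] at he1
  exact he1.symm

open scoped Classical in
/-- The Steinberg character as an integer. -/
noncomputable def stZ (P : Cfsg.BNPair G) [Finite G] (g : G) : ℤ :=
  letI := Fintype.ofFinite P.S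
  ∑ A : Finset P.S, (-1 : ℤ) ^ A.card * Nat.card (MulAction.fixedBy (G ⧸ parab P (A : Set P.S)) g)

theorem St_eq_cast (P : Cfsg.BNPair G) [Finite G] (g : G) : St P g = (stZ P g : ℂ) := by
  simp [St, stZ, Cfsg.fixedPointCharacter]

theorem stZ_conj (P : Cfsg.BNPair G) [Finite G] (g c : G) : stZ P (c * g * c⁻¹) = stZ P g := by
  have := IsIrrCharacter.isClassFunction (isIrrCharacter_St P) g c
  simp only [St_eq_cast] at this
  exact_mod_cast this

/-- The Steinberg character of the Levi quotient of `P_K`. -/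
noncomputable def stK (P : Cfsg.BNPair G) [Finite G] (K : Finset P.S) (x : G) : ℤ :=
  ∑ K' ∈ K.powerset, (-1 : ℤ) ^ K'.card * fixIn P (K : Set P.S) (K' : Set P.S) x

/-- A chosen representative in `N`. -/
noncomputable def repN (P : Cfsg.BNPair G) (w : Weyl P) : G := ((w.out : P.N) : G)

theorem repN_mem_C (P : Cfsg.BNPair G) (w : Weyl P) : repN P w ∈ C P w := by
  have h := mk_mem_C P w.out
  rwa [QuotientGroup.out_eq'] at h

/-- `P_K ⊓ n P_A n⁻¹`. -/
def interParab (P : Cfsg.BNPair G) (K A : Set P.S) (n : G) : Subgroup G :=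
  parab P K ⊓ (parab P A).comap (MulAut.conj n⁻¹).toMonoidHom

theorem mem_interParab {P : Cfsg.BNPair G} {K A : Set P.S} {n x : G} :
    x ∈ interParab P K A n ↔ x ∈ parab P K ∧ n⁻¹ * x * n ∈ parab P A := by
  simp [interParab, Subgroup.mem_inf]

namespace Data

variable {P : Cfsg.BNPair G} {U : Subgroup G} {p q : ℕ} (hd : Data P U p q) [Finite G]

include hd

theorem card_conjInter_N {n : G} (hn : n ∈ P.N) :
    Nat.card (conjInter U n) * q ^ len P (BN.wOf P hn) = Nat.card U := by
  rw [← hd.orb_of_N hn, orb, Nat.card_coe_set_eq, ← MulAction.index_stabilizer, ←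
    Subgroup.card_mul_index (MulAction.stabilizer U (n : G ⧸ U))]
  congr 1
  rw [show MulAction.stabilizer U (n : G ⧸ U) = (conjInter U n).subgroupOf U by
    ext u
    rw [MulAction.mem_stabilizer_iff, Subgroup.mem_subgroupOf, mem_conjInter]
    change ((((u : G) * n : G)) : G ⧸ U) = _ ↔ _
    rw [QuotientGroup.eq, show ((u : G) * n)⁻¹ * n = (n⁻¹ * (u : G) * n)⁻¹ by group, inv_mem_iff]
    exact ⟨fun h => ⟨u.2, h⟩, fun h => h.2⟩]
  exact (Nat.card_congr (Subgroup.subgroupOfEquivOfLe inf_le_left).toEquiv).symm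

variable (hrad : RadCond P U)

include hrad

/-- `U_K` moves `n B` around the whole cell of `n`, when `n` has no left descents in `K`. -/
theorem exists_transitive {K : Set P.S} {m : Weyl P} (hm : IsMinRep (BN.sigma P) K ∅ m) {u : G} (hu : u ∈ U) :
    ∃ v ∈ conjInter U (longRep P K), (v * repN P m)⁻¹ * (u * repN P m) ∈ P.B := by
  set nK := longRep P K
  set n := repN P m
  set UK := conjInter U nK
  have hnK : nK ∈ P.N := ((longW P K).out).2
  have hn : n ∈ P.N := (m.out).2
  have hwK : BN.wOf P hnK = longW P K := QuotientGroup.out_eq' _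
  have hwm : BN.wOf P hn = m := QuotientGroup.out_eq' _
  have hnKP : nK ∈ parab P K := C_subset_parab P (longW_mem P K) (longRep_mem_C P K)
  have hlen : len P (BN.wOf P hnK * BN.wOf P hn) = len P (BN.wOf P hnK) + len P (BN.wOf P hn) := by
    rw [hwK, hwm]
    exact (hasExchange P).wlen_mul_of_minRep_left hm (longW_mem P K)
  have hX : conjInter U (nK * n) = (UK ⊓ conjInter U n).map (MulAut.conj nK).toMonoidHom := by
    ext x
    simp only [Subgroup.mem_map, MulEquiv.coe_toMonoidHom, MulAut.conj_apply, Subgroup.mem_inf, mem_conjInter]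
    constructor
    · rintro ⟨hxU, hx⟩
      have h1 := hd.conj_mem_of_add hnK hn hlen hxU hx
      refine ⟨nK⁻¹ * x * nK, ⟨?_, h1, ?_⟩, by group⟩
      · have := hd.conjInter_normal hrad (inv_mem hnKP) (mem_conjInter.2 ⟨hxU, h1⟩ : x ∈ UK)
        simpa [mul_assoc] using this
      · convert hx using 1; group
    · rintro ⟨y, ⟨hyK, -, hyn⟩, rfl⟩
      refine ⟨(mem_conjInter.1 (hd.conjInter_normal hrad hnKP hyK)).1, ?_⟩
      convert hyn using 1; group
  have h1 := hd.card_conjInter_N (mul_mem hnK hn)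
  rw [BN.wOf_mul P hnK hn, hlen, hwK, hwm, hX,
    Subgroup.card_map_of_injective (MulAut.conj nK).injective, pow_add] at h1
  have h2 := hd.card_conjInter K
  have hq : 0 < q ^ len P (longW P K) := Nat.pos_of_ne_zero fun h0 => by
    rw [h0, mul_zero] at h2; exact Nat.card_pos.ne' h2.symm
  have h3 : Nat.card (UK ⊓ conjInter U n : Subgroup G) * q ^ len P m = Nat.card UK := by
    refine Nat.eq_of_mul_eq_mul_right hq ?_
    rw [h2, ← h1]; ring
  have hsub : ∀ v : UK, ((((v : G) * n : G)) : G ⧸ P.B) ∈ cell P m := fun v =>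
    (mk_mem_cell_iff P).2 (mul_mem_C_left P (hd.U_le (mem_conjInter.1 v.2).1) (repN_mem_C P m))
  have horb : MulAction.orbit UK (n : G ⧸ P.B) = cell P m := by
    refine Set.eq_of_subset_of_ncard_le (fun y ⟨v, hv⟩ => hv ▸ hsub v) ?_ (Set.toFinite _)
    rw [← Nat.card_coe_set_eq, card_cell P hd.index_q, ← MulAction.index_stabilizer,
      show MulAction.stabilizer UK (n : G ⧸ P.B) = (UK ⊓ conjInter U n).subgroupOf UK by
        ext v
        rw [MulAction.mem_stabilizer_iff, Subgroup.mem_subgroupOf]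
        change ((((v : G) * n : G)) : G ⧸ P.B) = _ ↔ _
        rw [QuotientGroup.eq, show ((v : G) * n)⁻¹ * n = (n⁻¹ * (v : G) * n)⁻¹ by group, inv_mem_iff]
        exact ⟨fun h => Subgroup.mem_inf.2 ⟨v.2, mem_conjInter.2 ⟨(mem_conjInter.1 v.2).1,
          hd.mem_U_of_conj (mem_conjInter.1 v.2).1 h⟩⟩,
          fun h => hd.U_le (mem_conjInter.1 (Subgroup.mem_inf.1 h).2).2⟩]
    refine le_of_eq ?_
    have h4 := Subgroup.card_mul_index ((UK ⊓ conjInter U n).subgroupOf UK)
    rw [Nat.card_congr (Subgroup.subgroupOfEquivOfLe inf_le_left).toEquiv, ← h3] at h4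
    exact (Nat.eq_of_mul_eq_mul_left Nat.card_pos h4).symm
  obtain ⟨v, hv⟩ : ((u * n : G) : G ⧸ P.B) ∈ MulAction.orbit UK (n : G ⧸ P.B) := by
    rw [horb]; exact (mk_mem_cell_iff P).2 (mul_mem_C_left P (hd.U_le hu) (repN_mem_C P m))
  exact ⟨v, v.2, QuotientGroup.eq.1 hv⟩

theorem interParab_le_normalizer (K A : Set P.S) (n : G) :
    interParab P K A n ≤ Subgroup.normalizer (conjInter U (longRep P K) : Set G) := fun _ hi =>
  Coprime.mem_normalizer_of_forall fun _ hx => hd.conjInter_normal hrad (mem_interParab.1 hi).1 hx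

/-- `U_K (P_K ⊓ n P_A n⁻¹)` is the parabolic subgroup of `inter`. -/
theorem parab_inter {K A : Set P.S} {m : Weyl P} (hm : IsMinRep (BN.sigma P) K A m) :
    parab P (inter (BN.sigma P) m A K) =
      conjInter U (longRep P K) ⊔ interParab P K A (repN P m) := by
  have hE := hasExchange P
  set n := repN P m
  have hn : n ∈ P.N := (m.out).2
  have hwm : BN.wOf P hn = m := QuotientGroup.out_eq' _
  have hle : parab P (inter (BN.sigma P) m A K) ≤ parab P K := parab_le P (inter_subset _ _ _ _)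
  refine le_antisymm ?_ (sup_le (fun x hx => le_parabolic P _ (hd.U_le (mem_conjInter.1 hx).1)) ?_)
  · rw [parab, Cfsg.BNPair.parabolic]
    refine sup_le (fun b hb => ?_) ((Subgroup.closure_le _).2 ?_)
    · obtain ⟨u, hu, h, hh, rfl⟩ := hd.decomp b hb
      obtain ⟨v, hv, hvu⟩ := hd.exists_transitive hrad (hE.isMinRep_left hm) hu
      refine mul_mem ?_ (Subgroup.mem_sup_right (mem_interParab.2 ⟨le_parabolic P _ hh.1,
        le_parabolic P _ (hd.conj_H' hn hh).1⟩))
      rw [show u = v * (v⁻¹ * u) by group]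
      refine mul_mem (Subgroup.mem_sup_left hv) (Subgroup.mem_sup_right (mem_interParab.2
        ⟨le_parabolic P _ (mul_mem (inv_mem (hd.U_le (mem_conjInter.1 hv).1)) (hd.U_le hu)),
          le_parabolic P _ ?_⟩))
      convert hvu using 1; simp only [n]; group
    · rintro _ ⟨k, hk, rfl⟩
      obtain ⟨a, ha, e⟩ := hk.2
      have hkN : (k : G) ∈ P.N := P.subset k.2
      refine Subgroup.mem_sup_right (mem_interParab.2 ⟨hle (subset_parabolic P _ ⟨k, hk, rfl⟩), ?_⟩)
      have hN : n⁻¹ * k * n ∈ P.N := mul_mem (mul_mem (inv_mem hn) hkN) hn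
      refine C_subset_parab P (w := BN.sigma P a) (Subgroup.subset_closure ⟨a, ha, rfl⟩) ?_
      have e' : BN.wOf P hN = BN.sigma P a := by
        rw [BN.wOf_mul P (mul_mem (inv_mem hn) hkN) hn, BN.wOf_mul P (inv_mem hn) hkN, BN.wOf_inv, wOf_S,
          hwm, mul_assoc, e, inv_mul_cancel_left]
        exact hn
      rw [← e']
      exact self_mem_C P hN
  · intro x hx
    obtain ⟨hxK, hxA⟩ := mem_interParab.1 hx
    obtain ⟨w, hw, hxw⟩ := (BN.mem_parab_iff P).1 hxK
    obtain ⟨v, hv, hxv⟩ := (BN.mem_parab_iff P).1 hxA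
    refine C_subset_parab P ?_ hxw
    have h1 := mul_mem_C_add P (hE.wlen_mul_of_minRep_left (hE.isMinRep_left hm) hw) hxw (repN_mem_C P m)
    have h2 := mul_mem_C_add P (hE.wlen_mul_of_minRep (hE.isMinRep_right hm) hv) (repN_mem_C P m) hxv
    rw [show n * (n⁻¹ * x * n) = x * n by group] at h2
    exact hE.mem_inter hm hw hv (C_unique P h1 h2)

open scoped Classical in
/-- One double coset `P_K n P_A`. -/
theorem sum_fibre [Fintype G] {K A : Set P.S} {m : Weyl P} (hm : IsMinRep (BN.sigma P) K A m) {x : G}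
    (hx : x ∈ parab P K) :
    ∑ g ∈ univ.filter (fun g : G => ∃ y ∈ parab P K, ∃ a ∈ parab P A, g = y * repN P m * a),
      Nat.card {u : conjInter U (longRep P K) // g⁻¹ * ((u : G) * x) * g ∈ parab P A} =
      Nat.card (parab P A) * Nat.card (conjInter U (longRep P K)) *
        fixIn P K (inter (BN.sigma P) m A K) x := by
  set n := repN P m
  set UK := conjInter U (longRep P K) with hUK
  set IK := interParab P K A n
  set K' := inter (BN.sigma P) m A K
  set S0 := univ.filter (fun g : G => ∃ y ∈ parab P K, ∃ a ∈ parab P A, g = y * n * a)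
  let F : G → ℕ := fun g => Nat.card {u : UK // g⁻¹ * ((u : G) * x) * g ∈ parab P A}
  have hF : ∀ g, ∀ a ∈ parab P A, F (g * a) = F g := fun g a ha => by
    refine Nat.card_congr (Equiv.subtypeEquivRight fun u => ?_)
    rw [show (g * a)⁻¹ * ((u : G) * x) * (g * a) = a⁻¹ * (g⁻¹ * ((u : G) * x) * g) * a by group,
      Subgroup.mul_mem_cancel_right _ ha, Subgroup.mul_mem_cancel_left _ (inv_mem ha)]
  have hsup := hd.parab_inter hrad hm
  have hnorm : IK ≤ Subgroup.normalizer (UK : Set G) := hd.interParab_le_normalizer hrad K A n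
  have hfib : ∀ g ∈ S0, (univ.filter fun z : parab P K × parab P A => (z.1 : G) * n * z.2 = g).card =
      Nat.card IK := by
    intro g hg
    obtain ⟨y, hy, a, ha, rfl⟩ := (Finset.mem_filter.1 hg).2
    rw [Nat.card_eq_fintype_card, ← Fintype.card_subtype]
    refine Fintype.card_congr
      { toFun := fun z => ⟨y⁻¹ * z.1.1, mem_interParab.2 ⟨mul_mem (inv_mem hy) z.1.1.2, ?_⟩⟩
        invFun := fun i => ⟨(⟨y * i, mul_mem hy (mem_interParab.1 i.2).1⟩, ⟨n⁻¹ * (i : G)⁻¹ * n * a, ?_⟩), ?_⟩
        left_inv := ?_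
        right_inv := fun i => Subtype.ext (inv_mul_cancel_left y i) }
    · have e : n⁻¹ * (y⁻¹ * (z.1.1 : G)) * n = a * (z.1.2 : G)⁻¹ := by
        calc n⁻¹ * (y⁻¹ * (z.1.1 : G)) * n
            = n⁻¹ * y⁻¹ * ((z.1.1 : G) * n * (z.1.2 : G)) * (z.1.2 : G)⁻¹ := by group
          _ = _ := by rw [z.2]; group
      rw [e]
      exact mul_mem ha (inv_mem z.1.2.2)
    · refine mul_mem ?_ ha
      have := inv_mem (mem_interParab.1 i.2).2
      convert this using 1; group
    · show y * (i : G) * n * (n⁻¹ * (i : G)⁻¹ * n * a) = y * n * a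
      group
    · rintro ⟨⟨y', a'⟩, hz⟩
      refine Subtype.ext (Prod.ext (Subtype.ext (mul_inv_cancel_left y y')) (Subtype.ext ?_))
      show n⁻¹ * (y⁻¹ * (y' : G))⁻¹ * n * a = a'
      calc n⁻¹ * (y⁻¹ * (y' : G))⁻¹ * n * a = n⁻¹ * (y' : G)⁻¹ * (y * n * a) := by group
        _ = n⁻¹ * (y' : G)⁻¹ * ((y' : G) * n * a') := by rw [← hz]
        _ = a' := by group
  have h1 : Nat.card IK * ∑ g ∈ S0, F g = ∑ z : parab P K × parab P A, F ((z.1 : G) * n * z.2) := by
    rw [← Finset.sum_fiberwise_of_maps_to (g := fun z : parab P K × parab P A => (z.1 : G) * n * z.2) (t := S0)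
      (fun z _ => Finset.mem_filter.2 ⟨Finset.mem_univ _, _, z.1.2, _, z.2.2, rfl⟩), Finset.mul_sum]
    refine Finset.sum_congr rfl fun g hg => ?_
    rw [Finset.sum_congr rfl fun z hz => by rw [(Finset.mem_filter.1 hz).2], Finset.sum_const, hfib g hg,
      smul_eq_mul]
  have h2 : ∀ y : parab P K, F ((y : G) * n) =
      if (y : G)⁻¹ * x * y ∈ parab P K' then Nat.card (UK ⊓ IK : Subgroup G) else 0 := by
    intro y
    set z := (y : G)⁻¹ * x * y
    have hzK : z ∈ parab P K := mul_mem (mul_mem (inv_mem y.2) hx) y.2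
    have e1 : F ((y : G) * n) = Nat.card {u : UK // (u : G) * z ∈ IK} := by
      refine Nat.card_congr
        { toFun := fun u => ⟨⟨(y : G)⁻¹ * (u.1 : G) * y, ?_⟩, ?_⟩
          invFun := fun u => ⟨⟨(y : G) * (u.1 : G) * (y : G)⁻¹, hd.conjInter_normal hrad y.2 u.1.2⟩, ?_⟩
          left_inv := fun u => Subtype.ext (Subtype.ext (by dsimp only; group))
          right_inv := fun u => Subtype.ext (Subtype.ext (by dsimp only; group)) }
      · have := hd.conjInter_normal hrad (inv_mem y.2) u.1.2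
        rwa [inv_inv] at this
      · show (y : G)⁻¹ * (u.1 : G) * y * z ∈ IK
        refine mem_interParab.2 ⟨mul_mem (mul_mem (mul_mem (inv_mem y.2)
          (le_parabolic P _ (hd.U_le (mem_conjInter.1 u.1.2).1))) y.2) hzK, ?_⟩
        convert u.2 using 1
        simp only [z]; group
      · have := (mem_interParab.1 u.2).2
        convert this using 1
        simp only [z]; group
    rw [e1]
    split_ifs with hz
    · rw [hsup, Coprime.mem_sup_iff hnorm] at hz
      obtain ⟨v, hv, i, hi, hvi⟩ := hz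
      refine Nat.card_congr
        { toFun := fun u => ⟨(u.1 : G) * v, Subgroup.mem_inf.2 ⟨mul_mem u.1.2 hv, ?_⟩⟩
          invFun := fun w => ⟨⟨(w : G) * v⁻¹, mul_mem (Subgroup.mem_inf.1 w.2).1 (inv_mem hv)⟩, ?_⟩
          left_inv := fun u => Subtype.ext (Subtype.ext (mul_inv_cancel_right _ _))
          right_inv := fun w => Subtype.ext (inv_mul_cancel_right _ _) }
      · have := mul_mem u.2 (inv_mem hi)
        convert this using 1
        rw [show i⁻¹ = z⁻¹ * v by rw [← hvi]; group]; group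
      · show (w : G) * v⁻¹ * z ∈ IK
        rw [← hvi, show (w : G) * v⁻¹ * (v * i) = (w : G) * i by group]
        exact mul_mem (Subgroup.mem_inf.1 w.2).2 hi
    · haveI : IsEmpty {u : UK // (u : G) * z ∈ IK} := ⟨fun u => hz <| by
        rw [hsup, Coprime.mem_sup_iff hnorm]
        exact ⟨(u.1 : G)⁻¹, inv_mem u.1.2, _, u.2, inv_mul_cancel_left _ _⟩⟩
      exact Nat.card_of_isEmpty
  have h3 : (univ.filter fun y : parab P K => (y : G)⁻¹ * x * y ∈ parab P K').card =
      fixIn P K K' x * Nat.card (parab P K') := by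
    rw [← Fintype.card_subtype, ← Nat.card_eq_fintype_card, fixIn, mul_comm, ← Nat.card_prod]
    refine Nat.card_congr ?_
    refine Equiv.trans (Equiv.subtypeSubtypeEquivSubtypeInter (fun g : G => g ∈ parab P K)
      (fun g : G => g⁻¹ * x * g ∈ parab P K')) ?_
    refine Equiv.trans (Equiv.subtypeEquivRight fun g => ?_)
      (QuotientGroup.preimageMkEquivSubgroupProdSet (parab P K')
        {c : G ⧸ parab P K' | c.out ∈ parab P K ∧ x • c = c})
    show (g ∈ parab P K ∧ g⁻¹ * x * g ∈ parab P K') ↔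
      ((g : G ⧸ parab P K').out ∈ parab P K ∧ x • (g : G ⧸ parab P K') = g)
    rw [out_mem_parab_iff P (inter_subset _ _ _ _), MulAction.Quotient.smul_coe, smul_eq_mul, eq_comm,
      QuotientGroup.eq, mul_assoc]
  have h4 : Nat.card (parab P K') * Nat.card (UK ⊓ IK : Subgroup G) = Nat.card UK * Nat.card IK := by
    rw [hsup]; exact PLocal.card_sup_mul_card_inf hnorm
  rw [Fintype.sum_prod_type,
    Finset.sum_congr rfl fun (y : parab P K) _ => show ∑ a : parab P A, F ((y : G) * n * a) =
      Nat.card (parab P A) * (if (y : G)⁻¹ * x * y ∈ parab P K' then Nat.card (UK ⊓ IK : Subgroup G) else 0) by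
        rw [Finset.sum_congr rfl fun (a : parab P A) _ => hF _ _ a.2, Finset.sum_const, Finset.card_univ,
          smul_eq_mul, ← Nat.card_eq_fintype_card, h2],
    ← Finset.mul_sum, ← Finset.sum_filter, Finset.sum_const, smul_eq_mul, h3] at h1
  refine Nat.eq_of_mul_eq_mul_left (Nat.card_pos (α := IK)) (h1.trans ?_)
  calc Nat.card (parab P A) * (fixIn P K K' x * Nat.card (parab P K') * Nat.card (UK ⊓ IK : Subgroup G))
      = Nat.card (parab P A) * fixIn P K K' x * (Nat.card (parab P K') * Nat.card (UK ⊓ IK : Subgroup G)) := by ring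
    _ = _ := by rw [h4]; ring

open scoped Classical in
/-- One `A`. -/
theorem sum_fixedBy [Fintype G] {K A : Set P.S} [Fintype (Weyl P)] {x : G} (hx : x ∈ parab P K) :
    ∑ u : conjInter U (longRep P K), Nat.card (MulAction.fixedBy (G ⧸ parab P A) ((u : G) * x)) =
      Nat.card (conjInter U (longRep P K)) *
        ∑ m ∈ univ.filter (fun m => IsMinRep (BN.sigma P) K A m), fixIn P K (inter (BN.sigma P) m A K) x := by
  refine Nat.eq_of_mul_eq_mul_left (Nat.card_pos (α := parab P A)) ?_
  have h1 : ∀ y : G, Nat.card (parab P A) * Nat.card (MulAction.fixedBy (G ⧸ parab P A) y) =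
      Nat.card {g : G // g⁻¹ * y * g ∈ parab P A} := by
    intro y
    rw [← Nat.card_prod]
    refine Nat.card_congr ((QuotientGroup.preimageMkEquivSubgroupProdSet (parab P A) _).symm.trans
      (Equiv.subtypeEquivRight fun g => ?_))
    show y • (g : G ⧸ parab P A) = g ↔ _
    rw [MulAction.Quotient.smul_coe, smul_eq_mul, eq_comm, QuotientGroup.eq, mul_assoc]
  rw [Finset.mul_sum, Finset.sum_congr rfl fun u _ => h1 _, ← Nat.card_sigma,
    Nat.card_congr (show (Σ u : conjInter U (longRep P K), {g : G // g⁻¹ * ((u : G) * x) * g ∈ parab P A}) ≃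
      Σ g : G, {u : conjInter U (longRep P K) // g⁻¹ * ((u : G) * x) * g ∈ parab P A} from
      { toFun := fun z => ⟨z.2.1, z.1, z.2.2⟩
        invFun := fun z => ⟨z.2.1, z.1, z.2.2⟩
        left_inv := fun _ => rfl
        right_inv := fun _ => rfl }), Nat.card_sigma, ← mul_assoc, Finset.mul_sum]
  let mf : G → Weyl P := fun g => ((dcEquiv P K A).symm (DoubleCoset.mk (parab P K) (parab P A) g)).1
  have hmf : ∀ (g : G) (m : Weyl P), IsMinRep (BN.sigma P) K A m →
      (mf g = m ↔ ∃ y ∈ parab P K, ∃ a ∈ parab P A, g = y * repN P m * a) := by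
    intro g m hm
    rw [← DoubleCoset.eq (parab P K) (parab P A)]
    show _ ↔ dcEquiv P K A ⟨m, hm⟩ = _
    rw [← Equiv.eq_symm_apply, Subtype.ext_iff, eq_comm]
  rw [← Finset.sum_fiberwise_of_maps_to (g := mf) (t := univ.filter fun m => IsMinRep (BN.sigma P) K A m)
    (fun g _ => Finset.mem_filter.2 ⟨Finset.mem_univ _, ((dcEquiv P K A).symm _).2⟩)]
  refine Finset.sum_congr rfl fun m hm => ?_
  rw [← hd.sum_fibre hrad (Finset.mem_filter.1 hm).2 hx]
  exact Finset.sum_congr (Finset.filter_congr fun g _ => hmf g m (Finset.mem_filter.1 hm).2) fun _ _ => rfl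

open scoped Classical in
/-- Curtis' restriction. -/
theorem sum_translate [Fintype G] (K : Finset P.S) {x : G} (hx : x ∈ parab P (K : Set P.S)) :
    ∑ u : conjInter U (longRep P (K : Set P.S)), stZ P ((u : G) * x) =
      Nat.card (conjInter U (longRep P (K : Set P.S))) * stK P K x := by
  letI := Fintype.ofFinite P.S
  letI := Fintype.ofFinite (Weyl P)
  set UK := conjInter U (longRep P (K : Set P.S))
  have hI : ∀ (A : Finset P.S) (m : Weyl P), inter (BN.sigma P) m (A : Set P.S) (K : Set P.S) =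
      ((K.filter fun k => ∃ a ∈ A, BN.sigma P k * m = m * BN.sigma P a : Finset P.S) : Set P.S) := by
    intro A m; ext k; simp [inter]
  rw [stK, ← (hasExchange P).alt_collapse K (fun K' => (fixIn P (K : Set P.S) (K' : Set P.S) x : ℤ)),
    Finset.mul_sum]
  simp only [stZ]
  rw [Finset.sum_comm]
  refine Finset.sum_congr rfl fun A _ => ?_
  rw [← Finset.mul_sum, ← Nat.cast_sum, hd.sum_fixedBy hrad hx, Nat.cast_mul, Nat.cast_sum]
  simp only [hI, UK]
  ring_nf
  congr!

variable (hbig : Nat.card U = q ^ len P (w0 P))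

omit hrad in
include hbig in
theorem St_one_card : St P 1 = (Nat.card U : ℂ) := by
  rw [St_one, hbig, ← card_cell P hd.index_q]
  congr 1
  refine Nat.card_congr (Equiv.subtypeEquivRight fun y => ?_)
  induction y using QuotientGroup.induction_on with
  | H g => exact (mem_bigCell P).trans (mk_mem_cell_iff P).symm

omit hrad in
theorem factorization_eq : (Nat.card G).factorization p = (Nat.card U).factorization p := by
  rw [← Subgroup.card_mul_index U, Nat.factorization_mul Nat.card_pos.ne' Subgroup.FiniteIndex.index_ne_zero,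
    Finsupp.add_apply, Nat.factorization_eq_zero_of_not_dvd hd.index_prime_to, add_zero]

omit hrad in
include hbig in
theorem stZ_singular {y : G} (hy : p ∣ orderOf y) : stZ P y = 0 := by
  have h := vanishes_of_defect_zero hd.prime (isIrrCharacter_St P) (hd.St_one_card hbig)
    hd.factorization_eq.le y hy
  rw [St_eq_cast] at h
  exact_mod_cast h

include hbig

open scoped Classical in
/-- The value at an element of order prime to `p` of `P_K`. -/
theorem stZ_parab [Fintype G] (K : Finset P.S) {x : G} (hx : x ∈ parab P (K : Set P.S)) (hp : ¬ p ∣ orderOf x) :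
    stZ P x = (Nat.card (conjInter U (longRep P (K : Set P.S)) ⊓ Subgroup.centralizer {x} : Subgroup G) : ℤ) *
      stK P K x := by
  set V := conjInter U (longRep P (K : Set P.S))
  set Cx : Subgroup G := V ⊓ Subgroup.centralizer {x}
  have hVp : IsPGroup p V := hd.pgroup.to_le inf_le_left
  have hxV : x ∈ Subgroup.normalizer (V : Set G) :=
    Coprime.mem_normalizer_of_forall fun a ha => hd.conjInter_normal hrad hx ha
  let φ : V → V := fun v => ⟨(v : G) * (x * (v : G)⁻¹ * x⁻¹),
    mul_mem v.2 ((Subgroup.mem_normalizer_iff.1 hxV _).1 (inv_mem v.2))⟩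
  set I := (univ : Finset V).image φ with hIdef
  have hzero : ∀ u : V, u ∉ I → stZ P ((u : G) * x) = 0 := by
    intro u hu
    by_contra h0
    obtain ⟨w, hw, e⟩ := exists_conj_of_coset hd.prime hVp hp hxV u.2
      (fun h => h0 (hd.stZ_singular hbig h))
    refine hu (Finset.mem_image.2 ⟨⟨w, hw⟩, Finset.mem_univ _, Subtype.ext ?_⟩)
    show w * (x * w⁻¹ * x⁻¹) = u
    rw [eq_comm, ← mul_inv_eq_iff_eq_mul.2 e.symm]
    group
  have hone : ∀ u ∈ I, stZ P ((u : G) * x) = stZ P x := by
    intro u hu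
    obtain ⟨v, -, rfl⟩ := Finset.mem_image.1 hu
    rw [← stZ_conj P x (v : G)]
    congr 1
    show (v : G) * (x * (v : G)⁻¹ * x⁻¹) * x = _
    group
  have hcard : I.card * Nat.card Cx = Nat.card V := by
    suffices h : ∀ u ∈ I, (univ.filter fun v : V => φ v = u).card = Nat.card Cx by
      rw [Nat.card_eq_fintype_card (α := V), ← Finset.card_univ,
        Finset.card_eq_sum_card_fiberwise (s := (univ : Finset V)) (f := φ) (t := I) (fun v _ => Finset.mem_image_of_mem φ (Finset.mem_univ v)),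
        Finset.sum_congr rfl h, Finset.sum_const, smul_eq_mul]
    intro u hu
    obtain ⟨v₀, -, rfl⟩ := Finset.mem_image.1 hu
    rw [← Fintype.card_subtype, ← Nat.card_eq_fintype_card]
    have hiff : ∀ v : V, φ v = φ v₀ ↔ (v₀ : G)⁻¹ * v ∈ Subgroup.centralizer {x} := by
      intro v
      rw [Subgroup.mem_centralizer_singleton_iff, Subtype.ext_iff]
      show (v : G) * (x * (v : G)⁻¹ * x⁻¹) = (v₀ : G) * (x * (v₀ : G)⁻¹ * x⁻¹) ↔ _
      constructor
      · intro h
        calc (v₀ : G)⁻¹ * v * x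
            = (v₀ : G)⁻¹ * ((v : G) * (x * (v : G)⁻¹ * x⁻¹)) * x * v := by group
          _ = x * ((v₀ : G)⁻¹ * v) := by rw [h]; group
      · intro h
        calc (v : G) * (x * (v : G)⁻¹ * x⁻¹)
            = (v₀ : G) * (((v₀ : G)⁻¹ * v) * x) * (v : G)⁻¹ * x⁻¹ := by group
          _ = _ := by rw [h]; group
    exact Nat.card_congr
      { toFun := fun v => ⟨(v₀ : G)⁻¹ * v.1, Subgroup.mem_inf.2 ⟨mul_mem (inv_mem v₀.2) v.1.2, (hiff v.1).1 v.2⟩⟩
        invFun := fun c => ⟨⟨(v₀ : G) * c, mul_mem v₀.2 (Subgroup.mem_inf.1 c.2).1⟩, (hiff _).2 (by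
          rw [inv_mul_cancel_left]; exact (Subgroup.mem_inf.1 c.2).2)⟩
        left_inv := fun v => Subtype.ext (Subtype.ext (mul_inv_cancel_left _ _))
        right_inv := fun c => Subtype.ext (inv_mul_cancel_left _ _) }
  have h := hd.sum_translate hrad K hx
  rw [← Finset.sum_subset (Finset.subset_univ I) (fun u _ hu => hzero u hu), Finset.sum_congr rfl hone,
    Finset.sum_const, nsmul_eq_mul] at h
  refine mul_left_cancel₀ (Nat.cast_ne_zero.2 (Nat.card_pos (α := V)).ne' : (Nat.card V : ℤ) ≠ 0) ?_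
  calc (Nat.card V : ℤ) * stZ P x = Nat.card Cx * ((I.card : ℤ) * stZ P x) := by rw [← hcard]; push_cast; ring
    _ = _ := by rw [h]; ring

/-- The value at an element of order prime to `p`. -/
theorem St_semisimple (g : G) (hg : ¬ p ∣ orderOf g) :
    St P g = ((p ^ (Nat.card (Subgroup.centralizer ({g} : Set G))).factorization p : ℕ) : ℂ) ∨
      St P g = -((p ^ (Nat.card (Subgroup.centralizer ({g} : Set G))).factorization p : ℕ) : ℂ) := by
  classical
  letI := Fintype.ofFinite G
  letI := Fintype.ofFinite P.S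
  haveI : Fact p.Prime := ⟨hd.prime⟩
  have htop : ∀ y : G, y ∈ parab P ((Finset.univ : Finset P.S) : Set P.S) := fun y => by
    refine C_subset_parab P (w := cellW P y) ?_ (mem_cellW P y)
    rw [Finset.coe_univ, Wp, Set.image_univ, closure_sigma P]
    trivial
  obtain ⟨K, hK, hKmin⟩ := Finset.exists_min_image
    (univ.filter fun K : Finset P.S => ∃ c : G, c⁻¹ * g * c ∈ parab P (K : Set P.S)) Finset.card
    ⟨univ, Finset.mem_filter.2 ⟨Finset.mem_univ _, 1, htop _⟩⟩
  obtain ⟨c, hc⟩ := (Finset.mem_filter.1 hK).2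
  set x := c⁻¹ * g * c with hxdef
  have hord : ¬ p ∣ orderOf x := by
    rw [show x = MulAut.conj c⁻¹ g by simp [hxdef], MulEquiv.orderOf_eq]; exact hg
  have hst : stK P K x = (-1) ^ K.card := by
    rw [stK, Finset.sum_eq_single K ?_ (fun h => absurd (Finset.mem_powerset_self K) h)]
    · suffices fixIn P (K : Set P.S) (K : Set P.S) x = 1 by rw [this, Nat.cast_one, mul_one]
      rw [fixIn, Nat.card_eq_one_iff_exists]
      refine ⟨⟨((1 : G) : G ⧸ parab P (K : Set P.S)), (out_mem_parab_iff P subset_rfl _).2 (one_mem _), ?_⟩, ?_⟩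
      · rw [MulAction.Quotient.smul_coe, smul_eq_mul, mul_one, QuotientGroup.eq, mul_one]
        exact inv_mem hc
      · rintro ⟨y, hy, -⟩
        refine Subtype.ext ?_
        show y = _
        rw [← QuotientGroup.out_eq' y, QuotientGroup.eq, mul_one]
        exact inv_mem hy
    · intro K' hK' hne
      suffices fixIn P (K : Set P.S) (K' : Set P.S) x = 0 by rw [this, Nat.cast_zero, mul_zero]
      rw [fixIn, Nat.card_eq_zero]
      refine Or.inl ⟨fun ⟨y, hy, hfix⟩ => ?_⟩
      have h1 := hKmin K' (Finset.mem_filter.2 ⟨Finset.mem_univ _, c * y.out, by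
        have := (smul_eq_iff _ _).1 hfix
        rwa [show (c * y.out)⁻¹ * g * (c * y.out) = y.out⁻¹ * x * y.out by rw [hxdef]; group]⟩)
      have h2 := Finset.card_lt_card (lt_of_le_of_ne (Finset.mem_powerset.1 hK') hne)
      omega
  set Cx : Subgroup G := conjInter U (longRep P (K : Set P.S)) ⊓ Subgroup.centralizer {x}
  obtain ⟨a, ha⟩ := IsPGroup.iff_card.1 (hd.pgroup.to_le (inf_le_left.trans inf_le_left : Cx ≤ U))
  have hval : stZ P g = (-1) ^ K.card * ((p ^ a : ℕ) : ℤ) := by
    rw [show g = c * x * c⁻¹ by rw [hxdef]; group, stZ_conj, hd.stZ_parab hrad hbig K hc hord, hst, ha,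
      mul_comm]
  have hcent : Nat.card (Subgroup.centralizer ({x} : Set G)) = Nat.card (Subgroup.centralizer ({g} : Set G)) := by
    refine Nat.card_congr ((MulAut.conj c).toEquiv.subtypeEquiv fun y => ?_)
    simp only [Subgroup.mem_centralizer_singleton_iff, MulEquiv.toEquiv_eq_coe, MulEquiv.coe_toEquiv,
      MulAut.conj_apply, hxdef]
    constructor
    · intro h
      calc c * y * c⁻¹ * g = c * (y * (c⁻¹ * g * c)) * c⁻¹ := by group
        _ = g * (c * y * c⁻¹) := by rw [h]; group
    · intro h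
      calc y * (c⁻¹ * g * c) = c⁻¹ * (c * y * c⁻¹ * g) * c := by group
        _ = c⁻¹ * g * c * y := by rw [h]; group
  have hle : a ≤ (Nat.card (Subgroup.centralizer ({g} : Set G))).factorization p := by
    rw [← hcent, ← hd.prime.pow_dvd_iff_le_factorization Nat.card_pos.ne', ← ha]
    exact Subgroup.card_dvd_of_le inf_le_right
  set C := Subgroup.centralizer ({g} : Set G)
  obtain ⟨j, hj⟩ := exists_int_of_isIntegral_mul (n := Nat.card U) Nat.card_pos.ne'
    (k := (C.index : ℤ) * stZ P g) (z := (C.index : ℂ) * St P g / St P 1) (by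
      rw [hd.St_one_card hbig, mul_div_cancel₀ _ (Nat.cast_ne_zero.2 Nat.card_pos.ne'), St_eq_cast]
      push_cast; rfl) (IsIrrCharacter.isIntegral_classSize_mul_div (isIrrCharacter_St P) g)
  have hdvd : Nat.card U ∣ C.index * p ^ a := by
    have h : (Nat.card U : ℤ) * j = (C.index : ℤ) * stZ P g := by
      have h' : ((Nat.card U : ℕ) : ℂ) * ((C.index : ℂ) * St P g / St P 1) = (C.index : ℂ) * St P g := by
        rw [hd.St_one_card hbig, mul_div_cancel₀ _ (Nat.cast_ne_zero.2 Nat.card_pos.ne')]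
      rw [hj, St_eq_cast] at h'
      exact_mod_cast h'
    have h' : (Nat.card U : ℤ) ∣ (C.index * p ^ a : ℕ) := ⟨(-1) ^ K.card * j, by
      rw [mul_left_comm, h, hval]
      push_cast
      rw [show (-1 : ℤ) ^ K.card * ((C.index : ℤ) * ((-1) ^ K.card * (p : ℤ) ^ a)) =
        ((-1 : ℤ) * -1) ^ K.card * ((C.index : ℤ) * (p : ℤ) ^ a) by rw [mul_pow]; ring]
      norm_num⟩
    exact_mod_cast h'
  have hge : (Nat.card C).factorization p ≤ a := by
    have h1 := (Nat.factorization_le_iff_dvd Nat.card_pos.ne'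
      (mul_ne_zero Subgroup.FiniteIndex.index_ne_zero (pow_ne_zero _ hd.prime.ne_zero))).2 hdvd p
    rw [Nat.factorization_mul Subgroup.FiniteIndex.index_ne_zero (pow_ne_zero _ hd.prime.ne_zero),
      Finsupp.add_apply, hd.prime.factorization_pow, Finsupp.single_eq_same, ← hd.factorization_eq,
      ← C.card_mul_index, Nat.factorization_mul Nat.card_pos.ne' Subgroup.FiniteIndex.index_ne_zero,
      Finsupp.add_apply] at h1
    omega
  rw [le_antisymm hge hle, St_eq_cast, hval]
  rcases neg_one_pow_eq_or ℤ K.card with e | e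
  · exact Or.inl (by rw [e]; simp)
  · exact Or.inr (by rw [e]; simp)

end Data

end Cfsg.Agent.HeckeU
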