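import Cfsg.Agent.Lib.HeckeU.ChevUnipotent
import Cfsg.Agent.Lib.HeckeU.Restrict

/-!
# The Steinberg character of a Chevalley group at semisimple elements

`steinberg_semisimple` : the value at `g` of order prime to `p` is `± |C g|_p`.
-/

set_option autoImplicit false

namespace Cfsg.Agent.HeckeU

open Cfsg.Lie Cfsg.Lie.ChevalleyDatum Cfsg.Agent.Chev Cfsg.Agent.ChevSt Cfsg.Agent.ChevBN Cfsg.Agent.BN

variable {D : ChevalleyDatum} {M : List (List ℤ)} {d : ℤ} (hD : Good D) (hR : Roots D M d)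
  {F : Type*} [Field F]

include hD hR

theorem steinberg_semisimple [Fintype F] (hS : ChevOrder.SimpleOK D) (p : ℕ) [Fact p.Prime] [CharP F p]
    (g : ↥(D.group F)) (hg : ¬ p ∣ orderOf g) :
    D.steinbergCharacter F g =
        ((p ^ (Nat.card ↥(Subgroup.centralizer ({g} : Set ↥(D.group F)))).factorization p : ℕ) : ℂ) ∨
      D.steinbergCharacter F g =
        -((p ^ (Nat.card ↥(Subgroup.centralizer ({g} : Set ↥(D.group F)))).factorization p : ℕ) : ℂ) := by
  set R := chevRGD hD hR F with hRdef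
  let χ : ∀ K : Subgroup (GL D.Idx F), K → ℂ := fun K g =>
    ∑ J ∈ (Finset.range D.rank).powerset, (-1 : ℂ) ^ J.card *
      Cfsg.fixedPointCharacter ((R.B ⊔ Subgroup.closure
        {x | ∃ j ∈ (J : Set ℕ), ∃ h : j < D.rank, x = R.n ⟨j, h⟩}).subgroupOf K) g
  have key : ∀ K : Subgroup (GL D.Idx F), R.G = K → ∀ g : K, ¬ p ∣ orderOf g →
      χ K g = ((p ^ (Nat.card ↥(Subgroup.centralizer ({g} : Set K))).factorization p : ℕ) : ℂ) ∨
      χ K g = -((p ^ (Nat.card ↥(Subgroup.centralizer ({g} : Set K))).factorization p : ℕ) : ℂ) := by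
    rintro _ rfl g hg
    rw [show χ R.G g = St R.bnPair g from (R.St_eq_sum g).symm]
    exact (hecke_data hD hR hS p (F := F)).St_semisimple (radCond hD hR) (card_Upos_eq_pow_w0 hD hR hS p) g hg
  have hχ : χ (D.group F) = D.steinbergCharacter F := by
    funext g
    refine Finset.sum_congr rfl fun J _ => ?_
    rw [parabolicIn, parabolicSubgroup, ← chev_B hD hR (F := F)]
    congr 5
    ext x
    constructor
    · rintro ⟨j, hj, h, rfl⟩
      exact ⟨j, hj, h, coe_ng hD _ _⟩
    · rintro ⟨j, hj, h, e⟩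
      exact ⟨j, hj, h, Units.ext (e.trans (coe_ng hD _ _).symm)⟩
  rw [← hχ]
  exact key _ (chev_G hD hR) g hg

end Cfsg.Agent.HeckeU
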