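import Cfsg.Agent.Lib.HeckeU.Data
import Cfsg.Agent.Lib.BN.Longest

/-!
# The number of elements of `p`-power order

For `Data P U p q` and `RadCond P U` (a subgroup of `U` stable under the generators in `A` has all its
`P_A`-conjugates in `U`): `P_A` has `|U| q^l(w_A)` elements of `p`-power order (`uP_eq`), so `G` has
`|U|²` of them when `|U| = q^l(w₀)` (`card_pElements`).

The proof takes the alternating sums over `K ⊆ A` of the fixed points on `P_A / P_K`: at `u ∈ U` the sum
counts the fixed cosets in the cell of `w_A`, which is all or none of them.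
-/

set_option autoImplicit false

namespace Cfsg.Agent.HeckeU

open Cfsg.Agent.BN Cfsg.Agent.ChevOrder Finset

variable {G : Type*} [Group G]

/-- `U ⊓ n U n⁻¹`. -/
def conjInter (U : Subgroup G) (n : G) : Subgroup G := U ⊓ U.comap (MulAut.conj n⁻¹).toMonoidHom

theorem mem_conjInter {U : Subgroup G} {n x : G} : x ∈ conjInter U n ↔ x ∈ U ∧ n⁻¹ * x * n ∈ U := by
  simp [conjInter, Subgroup.mem_inf]

/-- Subgroups of `U` stable under the generators in `A` keep their `P_A`-conjugates in `U`. -/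
def RadCond (P : Cfsg.BNPair G) (U : Subgroup G) : Prop :=
  ∀ (A : Set P.S) (X : Subgroup G), X ≤ U → (∀ s ∈ A, ∀ x ∈ X, (s : G) * x * (s : G)⁻¹ ∈ X) →
    ∀ g ∈ parab P A, ∀ x ∈ X, g * x * g⁻¹ ∈ U

section pair

variable [Finite G] (P : Cfsg.BNPair G)

/-- The longest element of the special subgroup of `A`. -/
noncomputable def longW (A : Set P.S) : Weyl P := ((hasExchange P).exists_longest A).choose

theorem longW_mem (A : Set P.S) : longW P A ∈ Wp P A :=
  ((hasExchange P).exists_longest A).choose_spec.1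

theorem longW_desc (A : Set P.S) : ∀ s ∈ A, RightDesc (BN.sigma P) s (longW P A) :=
  ((hasExchange P).exists_longest A).choose_spec.2.1

theorem longW_add {A : Set P.S} {v : Weyl P} (hv : v ∈ Wp P A) :
    len P (longW P A) = len P v + len P (v⁻¹ * longW P A) :=
  ((hasExchange P).exists_longest A).choose_spec.2.2 v hv

/-- A representative of it in `N`. -/
noncomputable def longRep (A : Set P.S) : G := ((longW P A).out : P.N)

theorem longRep_mem_C (A : Set P.S) : longRep P A ∈ C P (longW P A) := by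
  have h := mk_mem_C P (longW P A).out
  rwa [QuotientGroup.out_eq'] at h

theorem parab_le {A K : Set P.S} (h : K ⊆ A) : parab P K ≤ parab P A :=
  parabolic_mono P (Set.image_mono h)

theorem out_mem_parab_iff {A K : Set P.S} (h : K ⊆ A) (c : G) :
    ((c : G ⧸ parab P K)).out ∈ parab P A ↔ c ∈ parab P A := by
  obtain ⟨b, hb⟩ := QuotientGroup.mk_out_eq_mul (parab P K) c
  rw [hb]
  exact Subgroup.mul_mem_cancel_right _ (parab_le P h b.2)

theorem smul_eq_iff {K : Subgroup G} (g : G) (x : G ⧸ K) : g • x = x ↔ x.out⁻¹ * g * x.out ∈ K := by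
  conv_lhs => rw [← QuotientGroup.out_eq' x]
  rw [eq_comm, MulAction.Quotient.smul_coe, QuotientGroup.eq, smul_eq_mul, mul_assoc]

/-- The fixed points of `g` on the cosets of `P_K` in `P_A`. -/
noncomputable def fixIn (A K : Set P.S) (g : G) : ℕ :=
  Nat.card {x : G ⧸ parab P K // x.out ∈ parab P A ∧ g • x = x}

theorem fixIn_conj {A K : Set P.S} (hK : K ⊆ A) {c : G} (hc : c ∈ parab P A) (g : G) :
    fixIn P A K (c⁻¹ * g * c) = fixIn P A K g := by
  refine Nat.card_congr (Equiv.subtypeEquiv (MulAction.toPerm c) fun x => ?_)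
  induction x using QuotientGroup.induction_on with
  | H a =>
    simp only [MulAction.toPerm_apply, MulAction.Quotient.smul_coe, smul_eq_mul, out_mem_parab_iff P hK,
      Subgroup.mul_mem_cancel_left _ hc, QuotientGroup.eq]
    refine and_congr_right fun _ => ?_
    rw [show (c⁻¹ * g * c * a)⁻¹ * a = (g * (c * a))⁻¹ * (c * a) by group]

open scoped Classical in
theorem fixIn_eq_sum [Fintype (G ⧸ P.B)] {A K : Set P.S} (hK : K ⊆ A) {b : G} (hb : b ∈ P.B) :
    fixIn P A K b = ∑ y ∈ univ.filter (fun y : G ⧸ P.B => cellW P y.out ∈ Wp P A ∧ b • y = y),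
      if ∀ s ∈ K, ¬ RightDesc (BN.sigma P) s (cellW P y.out) then 1 else 0 := by
  rw [Finset.sum_boole, Finset.filter_filter, Nat.cast_id, ← Fintype.card_subtype,
    ← Nat.card_eq_fintype_card, fixIn]
  have hmem : ∀ y : G ⧸ P.B,
      (BN.proj P K y).out ∈ parab P A ↔ cellW P y.out ∈ Wp P A := by
    intro y
    rw [BN.proj, out_mem_parab_iff P hK, BN.mem_parab_iff]
    exact ⟨fun ⟨w, hw, hg⟩ => cellW_eq P hg ▸ hw, fun h => ⟨_, h, mem_cellW P _⟩⟩
  refine (Nat.card_congr (Equiv.ofBijective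
    (fun y : {y : G ⧸ P.B // (cellW P y.out ∈ Wp P A ∧ b • y = y) ∧
        ∀ s ∈ K, ¬ RightDesc (BN.sigma P) s (cellW P y.out)} =>
      (⟨BN.proj P K y.1, (hmem y.1).2 y.2.1.1, by rw [← proj_smul, y.2.1.2]⟩ :
        {x : G ⧸ parab P K // x.out ∈ parab P A ∧ b • x = x})) ⟨?_, ?_⟩)).symm
  · rintro ⟨y, hy⟩ ⟨z, hz⟩ h
    have e := (proj_bijective P K).1 (a₁ := ⟨y, fun s hs => absurd hs (Set.notMem_empty s), hy.2⟩)
      (a₂ := ⟨z, fun s hs => absurd hs (Set.notMem_empty s), hz.2⟩) (congrArg Subtype.val h)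
    exact Subtype.ext (congrArg Subtype.val e :)
  · rintro ⟨x, hxA, hxb⟩
    obtain ⟨⟨y, hy⟩, rfl⟩ := (proj_bijective P K).2 x
    have hfix : b • y = y := congrArg Subtype.val ((proj_bijective P K).1
      (a₁ := ⟨b • y, smul_mem_minCells P K hb hy⟩) (a₂ := ⟨y, hy⟩)
      (show BN.proj P K (b • y) = BN.proj P K y by rw [proj_smul]; exact hxb))
    exact ⟨⟨y, ⟨(hmem y).1 hxA, hfix⟩, hy.2⟩, rfl⟩

end pair

namespace Data

variable {P : Cfsg.BNPair G} {U : Subgroup G} {p q : ℕ} (hd : Data P U p q)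

include hd

/-- Additive lengths: an element of `U` fixing `n m B` fixes `n B`. -/
theorem conj_mem_of_add [Finite G] {n m x : G} (hn : n ∈ P.N) (hm : m ∈ P.N)
    (hadd : len P (BN.wOf P hn * BN.wOf P hm) = len P (BN.wOf P hn) + len P (BN.wOf P hm)) (hx : x ∈ U)
    (hfix : (n * m)⁻¹ * x * (n * m) ∈ U) : n⁻¹ * x * n ∈ U := by
  set v := BN.wOf P hn
  set w := BN.wOf P hm
  let f : cell P v × cell P w → cell P (v * w) := fun z =>
    ⟨((z.1.1.out * z.2.1.out : G) : G ⧸ P.B),
      (mk_mem_cell_iff P).2 (mul_mem_C_add P hadd (out_mem_C P z.1.2) (out_mem_C P z.2.2))⟩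
  -- `(y B, y⁻¹ y m B)` goes to `y m B`
  have hval : ∀ {y z : G} (hy : y ∈ C P v) (hz : z ∈ C P w), ∃ b : cell P w,
      (f (⟨(y : G ⧸ P.B), (mk_mem_cell_iff P).2 hy⟩, b)).1 = ((y * z : G) : G ⧸ P.B) := by
    intro y z hy hz
    have hB : (y : G ⧸ P.B).out⁻¹ * y ∈ P.B := QuotientGroup.eq.1 (QuotientGroup.out_eq' _)
    refine ⟨⟨(((y : G ⧸ P.B).out⁻¹ * y * z : G) : G ⧸ P.B),
      (mk_mem_cell_iff P).2 (mul_mem_C_left P hB hz)⟩, ?_⟩
    obtain ⟨c, hc⟩ := QuotientGroup.mk_out_eq_mul P.B ((y : G ⧸ P.B).out⁻¹ * y * z)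
    show (((y : G ⧸ P.B).out * (((y : G ⧸ P.B).out⁻¹ * y * z : G) : G ⧸ P.B).out : G) : G ⧸ P.B) = _
    rw [hc, show (y : G ⧸ P.B).out * ((y : G ⧸ P.B).out⁻¹ * y * z * (c : G)) = y * z * (c : G) by group]
    exact QuotientGroup.mk_mul_of_mem _ c.2
  have hsurj : Function.Surjective f := by
    rintro ⟨a, ha⟩
    induction a using QuotientGroup.induction_on with
    | H g =>
      obtain ⟨y, hy, z, hz, rfl⟩ := exists_mul_eq P ((mk_mem_cell_iff P).1 ha)
      obtain ⟨b, hb⟩ := hval hy hz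
      exact ⟨_, Subtype.ext hb⟩
  have hbij : Function.Bijective f := (Nat.bijective_iff_surjective_and_card f).2
    ⟨hsurj, by rw [Nat.card_prod, card_cell P hd.index_q, card_cell P hd.index_q,
      card_cell P hd.index_q, hadd, pow_add]⟩
  have hxn : x * n ∈ C P v := mul_mem_C_left P (hd.U_le hx) (self_mem_C P hn)
  obtain ⟨b₀, h₀⟩ := hval (self_mem_C P hn) (self_mem_C P hm)
  obtain ⟨b₁, h₁⟩ := hval hxn (self_mem_C P hm)
  have heq : ((n * m : G) : G ⧸ P.B) = ((x * n * m : G) : G ⧸ P.B) := by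
    rw [QuotientGroup.eq]
    convert hd.U_le hfix using 1
    group
  have h := congrArg (fun z => (z.1.1 : G ⧸ P.B)) (hbij.1 (Subtype.ext (h₀.trans (heq.trans h₁.symm))))
  have h' : n⁻¹ * (x * n) ∈ P.B := QuotientGroup.eq.1 h
  rw [← mul_assoc] at h'
  exact hd.mem_U_of_conj hx h'

variable [Finite G] (hrad : RadCond P U)

include hrad

/-- `U ⊓ n_A U n_A⁻¹` is normalised by `P_A`. -/
theorem conjInter_normal {A : Set P.S} {g : G} (hg : g ∈ parab P A) {x : G}
    (hx : x ∈ conjInter U (longRep P A)) : g * x * g⁻¹ ∈ conjInter U (longRep P A) := by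
  let Y : Subgroup G := ⨅ n : {n : P.N // (QuotientGroup.mk n : Weyl P) ∈ Wp P A},
    U.comap (MulAut.conj ((n.1 : G))⁻¹).toMonoidHom
  have memY : ∀ y, y ∈ Y ↔ ∀ n : P.N, (QuotientGroup.mk n : Weyl P) ∈ Wp P A → (n : G)⁻¹ * y * n ∈ U := by
    intro y
    simp [Y, Subgroup.mem_iInf, Subgroup.mem_comap]
  have hxY : x ∈ Y := by
    rw [memY]
    intro n hn
    have e : (n : G) * ((n⁻¹ * (longW P A).out : P.N) : G) = longRep P A := by
      simp [longRep]
    refine hd.conj_mem_of_add (m := ((n⁻¹ * (longW P A).out : P.N) : G)) n.2 (n⁻¹ * (longW P A).out).2 ?_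
      (mem_conjInter.1 hx).1 (by rw [e]; exact (mem_conjInter.1 hx).2)
    have e' : BN.wOf P (n⁻¹ * (longW P A).out : P.N).2 = (QuotientGroup.mk n : Weyl P)⁻¹ * longW P A := by
      show (QuotientGroup.mk (n⁻¹ * (longW P A).out) : Weyl P) = _
      rw [QuotientGroup.mk_mul, QuotientGroup.mk_inv, QuotientGroup.out_eq']
    rw [e', show BN.wOf P n.2 = (QuotientGroup.mk n : Weyl P) from rfl, mul_inv_cancel_left]
    exact longW_add P hn
  have hYU : Y ≤ U := fun y hy => by simpa using (memY y).1 hy 1 (one_mem _)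
  have hYs : ∀ s ∈ A, ∀ y ∈ Y, (s : G) * y * (s : G)⁻¹ ∈ Y := by
    intro s hs y hy
    rw [memY] at hy ⊢
    intro n hn
    have h := hy (⟨(s : G), P.subset s.2⟩⁻¹ * n) (by
      rw [QuotientGroup.mk_mul, QuotientGroup.mk_inv]
      exact mul_mem (inv_mem (Subgroup.subset_closure ⟨s, hs, rfl⟩)) hn)
    convert h using 1
    push_cast
    group
  have key := hrad A Y hYU hYs
  refine mem_conjInter.2 ⟨key g hg x hxY, ?_⟩
  have h := key ((longRep P A)⁻¹ * g)
    (mul_mem (inv_mem (C_subset_parab P (longW_mem P A) (longRep_mem_C P A))) hg) x hxY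
  convert h using 1
  group

omit hrad

theorem card_conjInter (A : Set P.S) :
    Nat.card (conjInter U (longRep P A)) * q ^ len P (longW P A) = Nat.card U := by
  have horb := hd.orb_of_N ((longW P A).out).2
  rw [show BN.wOf P ((longW P A).out).2 = longW P A from QuotientGroup.out_eq' _] at horb
  rw [← horb, orb, Nat.card_coe_set_eq, ← MulAction.index_stabilizer, ←
    Subgroup.card_mul_index (MulAction.stabilizer U (((longW P A).out : G) : G ⧸ U))]
  congr 1
  rw [show MulAction.stabilizer U (((longW P A).out : G) : G ⧸ U) =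
      (conjInter U (longRep P A)).subgroupOf U by
    ext u
    rw [MulAction.mem_stabilizer_iff, Subgroup.mem_subgroupOf, mem_conjInter]
    change ((((u : G) * (longW P A).out : G)) : G ⧸ U) = _ ↔ _
    rw [QuotientGroup.eq, show ((u : G) * (longW P A).out)⁻¹ * (longW P A).out =
      ((longRep P A)⁻¹ * (u : G) * longRep P A)⁻¹ by rw [longRep]; group, inv_mem_iff]
    exact ⟨fun h => ⟨u.2, h⟩, fun h => h.2⟩]
  exact (Nat.card_congr (Subgroup.subgroupOfEquivOfLe inf_le_left).toEquiv).symm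

include hrad

open scoped Classical in
/-- The alternating sum at `u ∈ U`. -/
theorem altSum_of_mem (A : Finset P.S) {u : G} (hu : u ∈ U) :
    ∑ K ∈ A.powerset, (-1 : ℤ) ^ K.card * fixIn P (A : Set P.S) (K : Set P.S) u =
      if u ∈ conjInter U (longRep P (A : Set P.S)) then (q : ℤ) ^ len P (longW P (A : Set P.S)) else 0 := by
  letI := Fintype.ofFinite (G ⧸ P.B)
  rw [Finset.sum_congr rfl fun K hK => by
    rw [fixIn_eq_sum P (Finset.coe_subset.2 (Finset.mem_powerset.1 hK)) (hd.U_le hu), Nat.cast_sum,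
      Finset.mul_sum], Finset.sum_comm]
  set W := longW P (A : Set P.S) with hW
  have key : ∀ y ∈ univ.filter (fun y : G ⧸ P.B => cellW P y.out ∈ Wp P (A : Set P.S) ∧ u • y = y),
      (∑ K ∈ A.powerset, (-1 : ℤ) ^ K.card *
        ((if ∀ s ∈ (K : Set P.S), ¬ RightDesc (BN.sigma P) s (cellW P y.out) then 1 else 0 : ℕ) : ℤ)) =
      if cellW P y.out = W then 1 else 0 := by
    intro y hy
    have hyA := (Finset.mem_filter.1 hy).2.1
    simp only [Nat.cast_ite, Nat.cast_one, Nat.cast_zero, mul_ite, mul_one, mul_zero, Finset.mem_coe]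
    rw [← Finset.sum_filter]
    rw [show A.powerset.filter (fun K => ∀ s ∈ K, ¬ RightDesc (BN.sigma P) s (cellW P y.out)) =
      (A.filter fun s => ¬ RightDesc (BN.sigma P) s (cellW P y.out)).powerset by
        ext K; simp only [Finset.mem_filter, Finset.mem_powerset, Finset.subset_iff]; grind,
      Finset.sum_powerset_neg_one_pow_card]
    by_cases hyW : cellW P y.out = W
    · rw [if_pos hyW, if_pos (Finset.filter_eq_empty_iff.2 fun s hs => not_not.2 ?_)]
      rw [hyW]
      exact longW_desc P _ s hs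
    · rw [if_neg hyW, if_neg]
      intro he
      exact hyW ((hasExchange P).eq_of_full_on hyA (longW_mem P _)
        (fun s hs => not_not.1 (Finset.filter_eq_empty_iff.1 he hs)) (longW_desc P _))
  refine (Finset.sum_congr rfl fun y hy => Eq.trans
    (Finset.sum_congr rfl fun K _ => congrArg (fun n : ℕ => (-1 : ℤ) ^ K.card * (n : ℤ)) ?_) (key y hy)).trans ?_
  · split_ifs <;> rfl
  rw [Finset.sum_boole, Finset.filter_filter]
  -- a fixed coset in the cell of `W`
  have hfix : ∀ y ∈ cell P W, u • y = y ↔ u ∈ conjInter U (longRep P (A : Set P.S)) := by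
    intro y hy
    induction y using QuotientGroup.induction_on with
    | H g =>
      rw [mk_mem_cell_iff, C, DoubleCoset.mem_doubleCoset] at hy
      obtain ⟨b, hb, b', hb', rfl⟩ := hy
      have hbP : b ∈ parab P (A : Set P.S) := le_parabolic P _ hb
      rw [QuotientGroup.mk_mul_of_mem _ hb', eq_comm, MulAction.Quotient.smul_coe, QuotientGroup.eq,
        smul_eq_mul]
      change (b * longRep P (A : Set P.S))⁻¹ * (u * (b * longRep P (A : Set P.S))) ∈ P.B ↔ _
      rw [show (b * longRep P (A : Set P.S))⁻¹ * (u * (b * longRep P (A : Set P.S))) =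
        (longRep P (A : Set P.S))⁻¹ * (b⁻¹ * u * b) * longRep P (A : Set P.S) by group]
      constructor
      · intro h
        have h1 : b⁻¹ * u * b ∈ conjInter U (longRep P (A : Set P.S)) :=
          mem_conjInter.2 ⟨hd.conj_U' hb hu, hd.mem_U_of_conj (hd.conj_U' hb hu) h⟩
        have h2 := hd.conjInter_normal hrad hbP h1
        rwa [show b * (b⁻¹ * u * b) * b⁻¹ = u by group] at h2
      · intro h
        have h2 := hd.conjInter_normal hrad (inv_mem hbP) h
        rw [inv_inv] at h2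
        exact hd.U_le (mem_conjInter.1 h2).2
  have hcell : ∀ y : G ⧸ P.B, cellW P y.out = W ↔ y ∈ cell P W := by
    intro y
    induction y using QuotientGroup.induction_on with
    | H g => rw [cellW_out, mk_mem_cell_iff]; exact ⟨fun h => h ▸ mem_cellW P g, cellW_eq P⟩
  by_cases huX : u ∈ conjInter U (longRep P (A : Set P.S))
  · rw [if_pos huX, ← Nat.cast_pow, ← card_cell P hd.index_q, ← Fintype.card_subtype,
      ← Nat.card_eq_fintype_card]
    exact congrArg Nat.cast (Nat.card_congr (Equiv.subtypeEquivRight fun y =>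
      ⟨fun h => (hcell y).1 h.2,
        fun h => ⟨⟨(hcell y).2 h ▸ longW_mem P _, (hfix y h).2 huX⟩, (hcell y).2 h⟩⟩))
  · rw [if_neg huX, Nat.cast_eq_zero, Finset.card_eq_zero]
    exact Finset.filter_eq_empty_iff.2 fun y _ h => huX ((hfix y ((hcell y).1 h.2)).1 h.1.2)

/-- The number of elements of `p`-power order in `P_A`. -/
noncomputable def uP (P : Cfsg.BNPair G) (p : ℕ) (A : Set P.S) : ℕ :=
  Nat.card {g : G // g ∈ parab P A ∧ ∃ k : ℕ, g ^ p ^ k = 1}

omit hrad

/-- An element of `p`-power order of `P_A` is conjugate in `P_A` into `U`. -/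
theorem exists_conj_U {A : Set P.S} {g : G} (hg : g ∈ parab P A) {k : ℕ} (hk : g ^ p ^ k = 1) :
    ∃ c ∈ parab P A, c⁻¹ * g * c ∈ U := by
  haveI : Fact p.Prime := ⟨hd.prime⟩
  have hUA : U ≤ parab P A := hd.U_le.trans (le_parabolic P _)
  have hndvd : ¬ p ∣ (U.subgroupOf (parab P A)).index := fun h =>
    hd.index_prime_to (h.trans (Dvd.intro _ (Subgroup.relIndex_mul_index hUA)))
  obtain ⟨j, -, hj⟩ := (Nat.dvd_prime_pow hd.prime).1
    (orderOf_dvd_of_pow_eq_one (show (⟨g, hg⟩ : parab P A) ^ p ^ k = 1 from Subtype.ext (by simpa using hk)))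
  have hP : IsPGroup p (Subgroup.zpowers (⟨g, hg⟩ : parab P A)) :=
    IsPGroup.of_card (n := j) (by rw [Nat.card_zpowers, hj])
  obtain ⟨c, hc⟩ := hP.nonempty_fixed_point_of_prime_not_dvd_card (parab P A ⧸ U.subgroupOf (parab P A))
    (by rwa [← Subgroup.index_eq_card])
  induction c using QuotientGroup.induction_on with
  | _ c =>
    have h1 : ((⟨g, hg⟩ * c : parab P A) : parab P A ⧸ U.subgroupOf (parab P A)) = c :=
      hc ⟨_, Subgroup.mem_zpowers _⟩
    refine ⟨c, c.2, ?_⟩
    have h2 := QuotientGroup.eq.1 h1.symm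
    rw [Subgroup.mem_subgroupOf] at h2
    simpa [mul_assoc] using h2

omit hd in
open scoped Classical in
/-- Counting pairs of a `p`-element and a fixed coset. -/
theorem sum_fixIn [Fintype G] {A K : Set P.S} (hK : K ⊆ A) :
    ∑ g ∈ univ.filter (fun g : G => g ∈ parab P A ∧ ∃ k : ℕ, g ^ p ^ k = 1), fixIn P A K g =
      fixIn P A K 1 * uP P p K := by
  classical
  rw [fixIn, uP, ← Nat.card_prod, ← Finset.sum_coe_sort]
  simp only [fixIn, Nat.card_eq_fintype_card]
  rw [← Fintype.card_sigma]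
  have hconj : ∀ (c h : G) (n : ℕ), (c⁻¹ * h * c) ^ n = c⁻¹ * h ^ n * c := fun c h n => by
    simpa using conj_pow (a := c⁻¹) (b := h) (i := n)
  refine Fintype.card_congr
    { toFun := fun z => (⟨z.2.1, z.2.2.1, one_smul _ _⟩, ⟨z.2.1.out⁻¹ * z.1.1 * z.2.1.out, ?_, ?_⟩)
      invFun := fun z => ⟨⟨z.1.1.out * z.2.1 * z.1.1.out⁻¹, ?_⟩, ⟨z.1.1, z.1.2.1, ?_⟩⟩
      left_inv := ?_
      right_inv := ?_ }
  · exact (smul_eq_iff _ _).1 z.2.2.2
  · obtain ⟨k, hk⟩ := (Finset.mem_filter.1 z.1.2).2.2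
    exact ⟨k, by rw [hconj, hk]; group⟩
  · refine Finset.mem_filter.2 ⟨Finset.mem_univ _,
      mul_mem (mul_mem z.1.2.1 (parab_le P hK z.2.2.1)) (inv_mem z.1.2.1), ?_⟩
    obtain ⟨k, hk⟩ := z.2.2.2
    refine ⟨k, ?_⟩
    have := hconj z.1.1.out⁻¹ z.2.1 (p ^ k)
    rw [inv_inv] at this
    rw [this, hk]; group
  · rw [smul_eq_iff]
    show z.1.1.out⁻¹ * (z.1.1.out * z.2.1 * z.1.1.out⁻¹) * z.1.1.out ∈ parab P K
    rw [show z.1.1.out⁻¹ * (z.1.1.out * z.2.1 * z.1.1.out⁻¹) * z.1.1.out = z.2.1 by group]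
    exact z.2.2.1
  · rintro ⟨⟨g, hg⟩, ⟨x, hx⟩⟩
    refine Sigma.subtype_ext (Subtype.ext ?_) rfl
    show x.out * (x.out⁻¹ * g * x.out) * x.out⁻¹ = g
    group
  · rintro ⟨⟨x, hx⟩, ⟨h, hh⟩⟩
    refine Prod.ext rfl (Subtype.ext ?_)
    show x.out⁻¹ * (x.out * h * x.out⁻¹) * x.out = h
    group

include hrad

/-- The alternating sum of the pair counts. -/
theorem alt_count (A : Finset P.S) :
    ∑ K ∈ A.powerset, (-1 : ℤ) ^ K.card * (fixIn P (A : Set P.S) (K : Set P.S) 1 * uP P p (K : Set P.S) : ℕ) =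
      Nat.card U := by
  classical
  letI := Fintype.ofFinite G
  set E := univ.filter (fun g : G => g ∈ parab P (A : Set P.S) ∧ ∃ k : ℕ, g ^ p ^ k = 1) with hE
  set X := conjInter U (longRep P (A : Set P.S)) with hX
  set L := len P (longW P (A : Set P.S))
  have hval : ∀ g ∈ E, (∑ K ∈ A.powerset, (-1 : ℤ) ^ K.card * fixIn P (A : Set P.S) (K : Set P.S) g) =
      if g ∈ X then (q : ℤ) ^ L else 0 := by
    intro g hg
    obtain ⟨-, hgA, k, hk⟩ := Finset.mem_filter.1 hg
    obtain ⟨c, hc, hcU⟩ := hd.exists_conj_U hgA hk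
    rw [Finset.sum_congr rfl fun K hK => by
      rw [← fixIn_conj P (Finset.coe_subset.2 (Finset.mem_powerset.1 hK)) hc g],
      hd.altSum_of_mem hrad A hcU]
    refine if_congr ⟨fun h => ?_, fun h => ?_⟩ rfl rfl
    · have := hd.conjInter_normal hrad hc h
      rwa [show c * (c⁻¹ * g * c) * c⁻¹ = g by group] at this
    · have := hd.conjInter_normal hrad (inv_mem hc) h
      rwa [inv_inv] at this
  have h1 : ∑ g ∈ E, ∑ K ∈ A.powerset, (-1 : ℤ) ^ K.card * fixIn P (A : Set P.S) (K : Set P.S) g =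
      Nat.card X * (q : ℤ) ^ L := by
    rw [Finset.sum_congr rfl hval, ← Finset.sum_filter, Finset.sum_const, nsmul_eq_mul,
      show E.filter (· ∈ X) = univ.filter (· ∈ X) from by
        ext g
        simp only [hE, Finset.mem_filter, Finset.mem_univ, true_and]
        refine ⟨fun h => h.2, fun h => ⟨⟨le_parabolic P _ (hd.U_le (mem_conjInter.1 h).1), ?_⟩, h⟩⟩
        obtain ⟨k, hk⟩ := hd.pgroup ⟨g, (mem_conjInter.1 h).1⟩
        exact ⟨k, by simpa [Subtype.ext_iff] using hk⟩,
      ← Fintype.card_subtype, ← Nat.card_eq_fintype_card]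
  rw [Finset.sum_comm] at h1
  rw [← hd.card_conjInter (A : Set P.S), Nat.cast_mul, Nat.cast_pow, ← h1]
  refine Finset.sum_congr rfl fun K hK => ?_
  rw [← Finset.mul_sum, ← sum_fixIn (Finset.coe_subset.2 (Finset.mem_powerset.1 hK)), Nat.cast_sum]

omit hrad

/-- The cosets of `P_K` in `P_A` by minimal representatives. -/
theorem fixIn_one [Fintype (Weyl P)] {A K : Set P.S} (hK : K ⊆ A)
    [DecidablePred fun w : Weyl P => w ∈ Wp P A ∧ IsMinRep (BN.sigma P) ∅ K w] :
    fixIn P A K 1 = ∑ w ∈ univ.filter (fun w => w ∈ Wp P A ∧ IsMinRep (BN.sigma P) ∅ K w), q ^ len P w := by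
  classical
  letI := Fintype.ofFinite (G ⧸ P.B)
  rw [fixIn_eq_sum P hK (one_mem _), Finset.sum_boole, Finset.filter_filter, Nat.cast_id,
    ← Finset.card_eq_sum_card_fiberwise (s := univ.filter fun y : G ⧸ P.B =>
      cellW P y.out ∈ Wp P A ∧ IsMinRep (BN.sigma P) ∅ K (cellW P y.out)) (f := fun y => cellW P y.out)
      (t := univ.filter (fun w => w ∈ Wp P A ∧ IsMinRep (BN.sigma P) ∅ K w)) (fun y hy => by
        simpa using hy) |>.trans (Finset.sum_congr rfl fun w hw => ?_)]
  · congr 1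
    ext y
    simp [IsMinRep, and_assoc]
  · rw [← card_cell P hd.index_q, Finset.filter_filter, ← Fintype.card_subtype, ← Nat.card_eq_fintype_card]
    refine Nat.card_congr (Equiv.subtypeEquivRight fun y => ?_)
    induction y using QuotientGroup.induction_on with
    | H g =>
      rw [cellW_out, mk_mem_cell_iff]
      refine ⟨fun h => h.2 ▸ mem_cellW P g, fun h => ?_⟩
      rw [cellW_eq P h]
      exact ⟨(Finset.mem_filter.1 hw).2, rfl⟩

/-- Multiplying the minimal representatives by the longest element. -/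
theorem minRep_shift [Fintype (Weyl P)] {A K : Set P.S} (hK : K ⊆ A)
    [DecidablePred fun w : Weyl P => w ∈ Wp P A ∧ IsMinRep (BN.sigma P) ∅ K w]
    [DecidablePred fun z : Weyl P => z ∈ Wp P A ∧ ∀ s ∈ K, RightDesc (BN.sigma P) s z] :
    (∑ w ∈ univ.filter (fun w => w ∈ Wp P A ∧ IsMinRep (BN.sigma P) ∅ K w), q ^ len P w) *
        q ^ len P (longW P K) =
      ∑ z ∈ univ.filter (fun z : Weyl P => z ∈ Wp P A ∧ ∀ s ∈ K, RightDesc (BN.sigma P) s z),
        q ^ len P z := by
  have hE := hasExchange P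
  have hWK : Wp P K ≤ Wp P A := Subgroup.closure_mono (Set.image_mono hK)
  rw [Finset.sum_mul]
  refine Finset.sum_bij' (fun m _ => m * longW P K) (fun z _ => z * (longW P K)⁻¹) ?_ ?_ ?_ ?_ ?_
  · intro m hm
    obtain ⟨hmA, hmin⟩ := (Finset.mem_filter.1 hm).2
    refine Finset.mem_filter.2 ⟨Finset.mem_univ _, mul_mem hmA (hWK (longW_mem P K)), fun s hs => ?_⟩
    have h1 := hE.wlen_mul_of_minRep hmin (longW_mem P K)
    have h2 := longW_desc P K s hs
    have h3 := hE.wlen_mul_of_minRep hmin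
      (mul_mem (longW_mem P K) (Subgroup.subset_closure ⟨s, hs, rfl⟩))
    rw [RightDesc] at h2 ⊢
    rw [mul_assoc]
    omega
  · intro z hz
    obtain ⟨hzA, hz⟩ := (Finset.mem_filter.1 hz).2
    obtain ⟨m, hm, a, ha, v, hv, rfl⟩ := hE.exists_minRep ∅ K z
    obtain rfl : a = 1 := by simpa using ha
    rw [one_mul] at hz hzA ⊢
    have hvK : v = longW P K := by
      refine hE.eq_of_full_on hv (longW_mem P K) (fun s hs => ?_) (longW_desc P K)
      have h1 := hz s hs
      have h2 := hE.wlen_mul_of_minRep hm hv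
      have h3 := hE.wlen_mul_of_minRep hm (mul_mem hv (Subgroup.subset_closure ⟨s, hs, rfl⟩))
      rw [RightDesc, mul_assoc] at h1
      rw [RightDesc]
      omega
    subst hvK
    rw [mul_inv_cancel_right]
    exact Finset.mem_filter.2 ⟨Finset.mem_univ _,
      (Subgroup.mul_mem_cancel_right _ (hWK (longW_mem P K))).1 hzA, hm⟩
  · intro m _; exact mul_inv_cancel_right m _
  · intro z _; exact inv_mul_cancel_right z _
  · intro m hm
    rw [← pow_add, show len P (m * longW P K) = len P m + len P (longW P K) from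
      hE.wlen_mul_of_minRep (Finset.mem_filter.1 hm).2.2 (longW_mem P K)]

/-- The same alternating sum with `q ^ l(w_K)` in place of the count in `P_K`. -/
theorem alt_identity (A : Finset P.S) :
    ∑ K ∈ A.powerset, (-1 : ℤ) ^ K.card *
      (fixIn P (A : Set P.S) (K : Set P.S) 1 * q ^ len P (longW P (K : Set P.S)) : ℕ) = 1 := by
  classical
  letI := Fintype.ofFinite (Weyl P)
  rw [Finset.sum_congr rfl fun K hK => by
    rw [hd.fixIn_one (Finset.coe_subset.2 (Finset.mem_powerset.1 hK)),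
      hd.minRep_shift (Finset.coe_subset.2 (Finset.mem_powerset.1 hK)), Nat.cast_sum, Finset.mul_sum,
      Finset.sum_filter]]
  rw [Finset.sum_comm]
  have key : ∀ z : Weyl P, (∑ K ∈ A.powerset,
      if z ∈ Wp P (A : Set P.S) ∧ ∀ s ∈ (K : Set P.S), RightDesc (BN.sigma P) s z
        then (-1 : ℤ) ^ K.card * ((q ^ len P z : ℕ) : ℤ) else 0) =
      if z = 1 then 1 else 0 := by
    intro z
    by_cases hzA : z ∈ Wp P (A : Set P.S)
    swap
    · rw [if_neg fun h : z = 1 => hzA (h ▸ one_mem _)]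
      exact Finset.sum_eq_zero fun K _ => if_neg fun h => hzA h.1
    simp only [hzA, true_and, Finset.mem_coe]
    rw [← Finset.sum_filter, ← Finset.sum_mul,
      show A.powerset.filter (fun K => ∀ s ∈ K, RightDesc (BN.sigma P) s z) =
        (A.filter fun s => RightDesc (BN.sigma P) s z).powerset by
          ext K; simp only [Finset.mem_filter, Finset.mem_powerset, Finset.subset_iff]; grind,
      Finset.sum_powerset_neg_one_pow_card]
    by_cases hz1 : z = 1
    · subst hz1
      rw [if_pos rfl, if_pos (Finset.filter_eq_empty_iff.2 fun s _ h => ?_)]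
      · simp [show len P (1 : Weyl P) = 0 from wlen_one]
      · rw [RightDesc, wlen_one] at h
        exact Nat.not_lt_zero _ h
    · rw [if_neg hz1, if_neg, zero_mul]
      intro he
      obtain ⟨s, hs, hsd⟩ := (hasExchange P).exists_rightDesc_on hzA hz1
      exact Finset.filter_eq_empty_iff.1 he hs hsd
  rw [Finset.sum_congr rfl fun z _ => key z, Finset.sum_ite_eq' univ (1 : Weyl P), if_pos (Finset.mem_univ _)]

omit hd in
theorem fixIn_self (A : Set P.S) : fixIn P A A 1 = 1 := by
  rw [fixIn, Nat.card_eq_one_iff_exists]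
  refine ⟨⟨((1 : G) : G ⧸ parab P A), (out_mem_parab_iff P subset_rfl _).2 (one_mem _), one_smul _ _⟩, ?_⟩
  rintro ⟨x, hx, -⟩
  refine Subtype.ext ?_
  show x = _
  rw [← QuotientGroup.out_eq' x, QuotientGroup.eq, mul_one]
  exact inv_mem hx

include hrad

/-- The count in each standard parabolic subgroup. -/
theorem uP_eq (A : Finset P.S) :
    uP P p (A : Set P.S) = Nat.card U * q ^ len P (longW P (A : Set P.S)) := by
  induction A using Finset.strongInduction with
  | _ A ih =>
    have h1 := hd.alt_count hrad A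
    have h2 := congrArg (fun z : ℤ => (Nat.card U : ℤ) * z) (hd.alt_identity A)
    simp only [mul_one, Finset.mul_sum] at h2
    rw [← h2, ← sub_eq_zero, ← Finset.sum_sub_distrib, Finset.sum_eq_single A ?_
      (fun h => absurd (Finset.mem_powerset_self A) h), fixIn_self, one_mul, one_mul, sub_eq_zero] at h1
    · rw [mul_left_comm] at h1
      have h3 := mul_left_cancel₀ (pow_ne_zero _ (by norm_num : (-1 : ℤ) ≠ 0)) h1
      exact_mod_cast h3
    · intro K hK hne
      rw [ih K (lt_of_le_of_ne (Finset.mem_powerset.1 hK) hne)]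
      push_cast
      ring

/-- Steinberg's count. -/
theorem card_pElements (hbig : Nat.card U = q ^ len P (w0 P)) :
    Nat.card {g : G // ∃ k : ℕ, g ^ p ^ k = 1} = Nat.card U ^ 2 := by
  classical
  letI := Fintype.ofFinite P.S
  have hW : Wp P (Set.univ : Set P.S) = ⊤ := by
    rw [Wp, Set.image_univ]; exact closure_sigma P
  have htop : parab P ((Finset.univ : Finset P.S) : Set P.S) = ⊤ := by
    refine eq_top_iff.2 fun g _ => C_subset_parab P (w := cellW P g) ?_ (mem_cellW P g)
    rw [Finset.coe_univ, hW]; trivial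
  have h := hd.uP_eq hrad (Finset.univ : Finset P.S)
  rw [uP, htop] at h
  rw [show longW P ((Finset.univ : Finset P.S) : Set P.S) = w0 P from
      eq_w0 P fun s => longW_desc P _ s (by simp), ← hbig, ← sq] at h
  rw [← h]
  exact Nat.card_congr (Equiv.subtypeEquivRight fun g => by simp)

end Data

end Cfsg.Agent.HeckeU
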