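import Cfsg.Agent.Lib.HeckeU.Chev
import Cfsg.Agent.Lib.HeckeU.Unipotent
import Cfsg.Agent.Lib.ChevBN.WeaklyClosed

/-!
# Elements of `p`-power order of a Chevalley group

* `radCond` : the radical condition for `chevRGD`, through `ChevBN.le_radical_of_conj`;
* `card_pElements_chev` : there are `|U|²` of them.
-/

set_option autoImplicit false

namespace Cfsg.Agent.HeckeU

open Cfsg.Lie Cfsg.Lie.ChevalleyDatum Cfsg.Agent.Chev Cfsg.Agent.ChevSt Cfsg.Agent.ChevBN Cfsg.Agent.BN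

variable {D : ChevalleyDatum} {M : List (List ℤ)} {d : ℤ} (hD : Good D) (hR : Roots D M d)
  {F : Type*} [Field F]

include hD hR

theorem radCond :
    RadCond (chevRGD hD hR F).bnPair ((chevRGD hD hR F).Upos.subgroupOf (chevRGD hD hR F).G) := by
  set R := chevRGD hD hR F
  intro A X hXU hX g hg x hx
  let J : Set ℕ := {j | ∃ i : Fin D.rank, i.val = j ∧ ∃ s ∈ A, (s : R.G) = R.nG i}
  let X' : Subgroup (GL D.Idx F) := X.map R.G.subtype
  have hX'U : X' ≤ D.posUnipotent F := by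
    rintro _ ⟨y, hy, rfl⟩
    rw [← chev_Upos hD hR]
    exact hXU hy
  have hX'J : X' ≤ D.unipotentRadical F J := by
    refine le_radical_of_conj hD hR hX'U fun i hi z hz => ?_
    obtain ⟨y, hy, rfl⟩ := hz
    obtain ⟨i', hii', s, hs, hsi⟩ := hi
    obtain rfl : i' = i := Fin.ext hii'
    refine ⟨_, hX s hs y hy, ?_⟩
    simp only [hsi]
    rfl
  have hgJ : (g : GL D.Idx F) ∈ D.parabolicSubgroup F J := by
    have hle : (parab R.bnPair A).map R.G.subtype ≤ D.parabolicSubgroup F J := by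
      rw [parab, Cfsg.BNPair.parabolic, Subgroup.map_sup, MonoidHom.map_closure]
      refine sup_le ?_ ((Subgroup.closure_le _).2 ?_)
      · rintro _ ⟨y, hy, rfl⟩
        refine Subgroup.mem_sup_left ?_
        rw [← chev_B hD hR]
        exact hy
      · rintro _ ⟨_, ⟨s, hs, rfl⟩, rfl⟩
        obtain ⟨i, hi⟩ : (s : R.G) ∈ Set.range R.nG := s.2
        refine Subgroup.mem_sup_right (Subgroup.subset_closure ⟨i.val, ⟨i, rfl, s, hs, hi.symm⟩, i.isLt, ?_⟩)
        rw [← hi]
        exact coe_ng hD _ _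
    exact hle ⟨g, hg, rfl⟩
  have h1 := ((Subgroup.mem_normalizer_iff.1 (parabolic_le_normalizer hD hR J hgJ)) _).1
    (hX'J ⟨x, hx, rfl⟩)
  have h2 : D.unipotentRadical F J ≤ R.Upos := by
    rw [chev_Upos hD hR]
    exact Subgroup.closure_mono fun y ⟨r, t, hr, _, e⟩ => ⟨r, t, hr, e⟩
  exact h2 h1

theorem card_pElements_chev [Fintype F] (hS : ChevOrder.SimpleOK D) (p : ℕ) [Fact p.Prime] [CharP F p] :
    Nat.card {g : ↥(D.group F) // ∃ k : ℕ, orderOf g = p ^ k} =
      Fintype.card F ^ (2 * (D.nroots / 2)) := by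
  have key : ∀ K : Subgroup (GL D.Idx F), (chevRGD hD hR F).G = K →
      Nat.card {g : K // ∃ k : ℕ, orderOf g = p ^ k} = Fintype.card F ^ (2 * (D.nroots / 2)) := by
    rintro _ rfl
    set R := chevRGD hD hR F
    letI := Fintype.ofFinite R.G
    have h := (hecke_data hD hR hS p (F := F)).card_pElements (radCond hD hR)
      (card_Upos_eq_pow_w0 hD hR hS p)
    rw [card_Upos_subgroupOf hD hR, Nat.card_eq_fintype_card (α := F), ← pow_mul, mul_comm] at h
    rw [← h]
    refine Nat.card_congr (Equiv.subtypeEquivRight fun g => ⟨?_, ?_⟩)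
    · rintro ⟨k, hk⟩
      exact ⟨k, hk ▸ pow_orderOf_eq_one g⟩
    · rintro ⟨k, hk⟩
      obtain ⟨j, -, hj⟩ := (Nat.dvd_prime_pow (Fact.out : p.Prime)).1 (orderOf_dvd_of_pow_eq_one hk)
      exact ⟨j, hj⟩
  exact key _ (chev_G hD hR)

end Cfsg.Agent.HeckeU
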