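import Cfsg.Agent.Lib.HeckeU.Schur
import Cfsg.Agent.Lib.BN.Steinberg
import Cfsg.Agent.Lib.ChevOrder.BNCount

/-!
# (B,N)-pairs with a unipotent normal Sylow subgroup of `B`

`Data P U p q`: the hypotheses; double cosets `U g U`, their representatives in `N`, and the number
`q ^ len` of left cosets they contain; `sum_orb`: the count `∑_g (orb g)⁻² = |G| / |U|`.
-/

set_option autoImplicit false

namespace Cfsg.Agent.HeckeU

open Cfsg.Agent.BN Cfsg.Agent.ChevOrder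
open scoped Pointwise

variable {G : Type*} [Group G]

/-- The hypotheses: `B = U (B ∩ N)`, `B ∩ N` abelian, `U` a normal Sylow `p`-subgroup of `B` and of `G`,
uniform index `q`, and `U` as large as the biggest cell. -/
structure Data (P : Cfsg.BNPair G) (U : Subgroup G) (p q : ℕ) : Prop where
  prime : p.Prime
  U_le : U ≤ P.B
  pgroup : IsPGroup p U
  index_prime_to : ¬ p ∣ U.index
  conj_U : ∀ b ∈ P.B, ∀ u ∈ U, b * u * b⁻¹ ∈ U
  decomp : ∀ b ∈ P.B, ∃ u ∈ U, ∃ h ∈ P.B ⊓ P.N, b = u * h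
  comm : ∀ a ∈ P.B ⊓ P.N, ∀ b ∈ P.B ⊓ P.N, a * b = b * a
  p_dvd : p ∣ q
  index_q : ∀ s ∈ P.S, (P.B.map (MulAut.conj s).toMonoidHom).relIndex P.B = q

variable {P : Cfsg.BNPair G} {U : Subgroup G} {p q : ℕ} (hd : Data P U p q)

include hd

namespace Data

theorem q_pos [Finite G] (hS : P.S.Nonempty) : 0 < q := by
  obtain ⟨s, hs⟩ := hS
  rw [← hd.index_q s hs]
  exact Nat.pos_of_ne_zero Subgroup.FiniteIndex.index_ne_zero

theorem conj_U' {b u : G} (hb : b ∈ P.B) (hu : u ∈ U) : b⁻¹ * u * b ∈ U := by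
  simpa using hd.conj_U b⁻¹ (inv_mem hb) u hu

theorem h_normalizes {h u : G} (hh : h ∈ P.B ⊓ P.N) (hu : u ∈ U) : h * u * h⁻¹ ∈ U :=
  hd.conj_U h hh.1 u hu

/-- An element of `B` of `p`-power order lies in `U`. -/
theorem mem_U_of_pow [Finite G] {x : G} (hx : x ∈ P.B) {k : ℕ} (hk : x ^ p ^ k = 1) : x ∈ U := by
  haveI hN : (U.subgroupOf P.B).Normal := ⟨fun u hu b => hd.conj_U b b.2 u hu⟩
  have h1 : (QuotientGroup.mk (⟨x, hx⟩ : P.B) : P.B ⧸ U.subgroupOf P.B) ^ p ^ k = 1 := by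
    rw [← QuotientGroup.mk_pow]
    refine (QuotientGroup.eq_one_iff _).2 ?_
    rw [Subgroup.mem_subgroupOf]
    simp [hk]
  have h2 := (orderOf_dvd_natCard (QuotientGroup.mk (⟨x, hx⟩ : P.B) : P.B ⧸ U.subgroupOf P.B))
  have hidx : ¬ p ∣ (U.subgroupOf P.B).index := fun h => hd.index_prime_to (h.trans (by
    rw [← Subgroup.relIndex_mul_index hd.U_le]
    exact Dvd.intro _ rfl))
  obtain ⟨j, -, hj⟩ := (Nat.dvd_prime_pow hd.prime).1 (orderOf_dvd_of_pow_eq_one h1)
  have hj0 : j = 0 := by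
    by_contra h
    exact hidx ((dvd_pow_self p h).trans (hj ▸ h2))
  rw [hj0, pow_zero, orderOf_eq_one_iff, QuotientGroup.eq_one_iff] at hj
  exact hj

/-- `U` is the set of elements of `B` conjugate into `U`. -/
theorem mem_U_of_conj [Finite G] {x g : G} (hx : x ∈ U) (hg : g⁻¹ * x * g ∈ P.B) : g⁻¹ * x * g ∈ U := by
  obtain ⟨k, hk⟩ := hd.pgroup ⟨x, hx⟩
  refine hd.mem_U_of_pow hg (k := k) ?_
  have hk' : x ^ p ^ k = 1 := by simpa [Subtype.ext_iff] using hk
  rw [show g⁻¹ * x * g = MulAut.conj g⁻¹ x by simp, ← map_pow, hk', map_one]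

/-- Every element lies in `U n U` for some `n ∈ N`. -/
theorem exists_rep (g : G) : ∃ n ∈ P.N, g ∈ DoubleCoset.doubleCoset n (U : Set G) U := by
  obtain ⟨w, hw⟩ := exists_mem_C P g
  induction w using QuotientGroup.induction_on with
  | H n =>
    obtain ⟨b, hb, b', hb', rfl⟩ := (mem_C_mk P).1 hw
    obtain ⟨u, hu, h, hh, rfl⟩ := hd.decomp b hb
    obtain ⟨u', hu', h', hh', rfl⟩ := hd.decomp b' hb'
    have hh'' : h' ∈ P.B ⊓ P.N := hh'
    refine ⟨h * n * h', mul_mem (mul_mem hh.2 n.2) hh'.2, DoubleCoset.mem_doubleCoset.2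
      ⟨u, hu, h'⁻¹ * u' * h', hd.conj_U' hh'.1 hu', ?_⟩⟩
    group

theorem conj_H {n h : G} (hn : n ∈ P.N) (hh : h ∈ P.B ⊓ P.N) : n * h * n⁻¹ ∈ P.B ⊓ P.N :=
  Subgroup.mem_inf.2 ⟨P.conj_mem n hn h hh, mul_mem (mul_mem hn hh.2) (inv_mem hn)⟩

theorem conj_H' {n h : G} (hn : n ∈ P.N) (hh : h ∈ P.B ⊓ P.N) : n⁻¹ * h * n ∈ P.B ⊓ P.N := by
  simpa using hd.conj_H (inv_mem hn) hh

/-- The number of left cosets in `U n U`. -/
theorem orb_of_N [Finite G] {n : G} (hn : n ∈ P.N) : orb U n = q ^ len P (BN.wOf P hn) := by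
  rw [← card_cell P hd.index_q, orb]
  have hsub : ∀ z : MulAction.orbit U (n : G ⧸ U), ((z.1.out : G) : G ⧸ P.B) ∈ cell P (BN.wOf P hn) := by
    intro z
    rw [mk_mem_cell_iff, C_wOf P hn, DoubleCoset.mem_doubleCoset]
    have := (mem_orbit_iff U (g := n) (x := z.1.out)).1 (by rw [QuotientGroup.out_eq']; exact z.2)
    obtain ⟨u, hu, v, hv, e⟩ := DoubleCoset.mem_doubleCoset.1 this
    exact ⟨u, hd.U_le hu, v, hd.U_le hv, e⟩
  refine Nat.card_congr (Equiv.ofBijective (fun z => (⟨_, hsub z⟩ : cell P (BN.wOf P hn))) ⟨?_, ?_⟩)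
  · rintro ⟨z, hz⟩ ⟨z', hz'⟩ h
    have h' : z.out⁻¹ * z'.out ∈ P.B := QuotientGroup.eq.1 (congrArg Subtype.val h)
    obtain ⟨u, hu, v, hv, e⟩ := DoubleCoset.mem_doubleCoset.1
      ((mem_orbit_iff U (g := n) (x := z.out)).1 (by rw [QuotientGroup.out_eq']; exact hz))
    obtain ⟨u', hu', v', hv', e'⟩ := DoubleCoset.mem_doubleCoset.1
      ((mem_orbit_iff U (g := n) (x := z'.out)).1 (by rw [QuotientGroup.out_eq']; exact hz'))
    refine Subtype.ext ?_
    show z = z'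
    rw [← QuotientGroup.out_eq' z, ← QuotientGroup.out_eq' z', QuotientGroup.eq]
    rw [e, e'] at h' ⊢
    have h1 : n⁻¹ * (u⁻¹ * u') * n ∈ P.B := by
      have := mul_mem (mul_mem (hd.U_le hv) h') (inv_mem (hd.U_le hv'))
      simpa [mul_assoc] using this
    have h2 := mul_mem (mul_mem (inv_mem hv) (hd.mem_U_of_conj (mul_mem (inv_mem hu) hu') h1)) hv'
    simpa [mul_assoc] using h2
  · rintro ⟨c, hc⟩
    induction c using QuotientGroup.induction_on with
    | H x =>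
      rw [mk_mem_cell_iff, C_wOf P hn, DoubleCoset.mem_doubleCoset] at hc
      obtain ⟨b, hb, b', hb', rfl⟩ := hc
      obtain ⟨u, hu, h, hh, rfl⟩ := hd.decomp b hb
      refine ⟨⟨((u * n : G) : G ⧸ U), (mem_orbit_iff U).2 (DoubleCoset.mem_doubleCoset.2
        ⟨u, hu, 1, one_mem _, by simp⟩)⟩, Subtype.ext ?_⟩
      show (((u * n : G) : G ⧸ U).out : G ⧸ P.B) = _
      obtain ⟨v, hv⟩ := QuotientGroup.mk_out_eq_mul U (u * n)
      rw [hv, QuotientGroup.eq]
      have := mul_mem (mul_mem (inv_mem (hd.U_le v.2)) (hd.conj_H' hn hh).1) hb'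
      simpa [mul_assoc] using this

theorem cellW_eq_of_mem {g n : G} (hn : n ∈ P.N) (hg : g ∈ DoubleCoset.doubleCoset n (U : Set G) U) :
    cellW P g = BN.wOf P hn := by
  obtain ⟨u, hu, v, hv, rfl⟩ := DoubleCoset.mem_doubleCoset.1 hg
  exact cellW_eq P (mul_mem_C_right P (mul_mem_C_left P (hd.U_le hu) (self_mem_C P hn)) (hd.U_le hv))

/-- The number of left cosets in any `U g U`. -/
theorem orb_eq [Finite G] (g : G) : orb U g = q ^ len P (cellW P g) := by
  obtain ⟨n, hn, hg⟩ := hd.exists_rep g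
  rw [orb_congr U hg, hd.cellW_eq_of_mem hn hg, hd.orb_of_N hn]

theorem card_cellW [Finite G] [Fintype G] (w : Weyl P) [DecidableEq (Weyl P)] :
    (Finset.univ.filter fun g => cellW P g = w).card = Nat.card P.B * q ^ len P w := by
  rw [← card_cell P hd.index_q, ← Nat.card_prod, ← Fintype.card_subtype, ← Nat.card_eq_fintype_card]
  refine Nat.card_congr (Equiv.trans (Equiv.subtypeEquivRight fun g => ?_)
    (QuotientGroup.preimageMkEquivSubgroupProdSet P.B (cell P w)))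
  show cellW P g = w ↔ (g : G ⧸ P.B) ∈ cell P w
  rw [mk_mem_cell_iff]
  exact ⟨fun h => h ▸ mem_cellW P g, cellW_eq P⟩

/-- The value `∑_g orb(g)⁻²`. -/
theorem sum_orb [Finite G] [Fintype G] (hbig : Nat.card U = q ^ len P (w0 P)) :
    ∑ g : G, ((orb U g : ℝ) ^ 2)⁻¹ = (Nat.card G : ℝ) / Nat.card U := by
  classical
  letI := Fintype.ofFinite (Weyl P)
  have h0 : (q : ℝ) ^ len P (w0 P) ≠ 0 := by
    rw [← Nat.cast_pow, ← hbig]
    exact Nat.cast_ne_zero.2 Nat.card_pos.ne'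
  rw [← Finset.sum_fiberwise Finset.univ (cellW P) fun g => ((orb U g : ℝ) ^ 2)⁻¹,
    card_eq_sum P hd.index_q, hbig, Nat.cast_mul, Nat.cast_sum, Finset.mul_sum, Finset.sum_div]
  simp only [Nat.cast_pow]
  have hinv : ∀ w : Weyl P, ∃ v : Weyl P, v = w⁻¹ * w0 P ∧ len P w + len P v = len P (w0 P) := by
    intro w
    obtain ⟨l, hl, rfl⟩ := BN.exists_isReduced (sigma_sq P) (closure_sigma P) w
    have hld : ∀ s, LeftDesc (BN.sigma P) s (w0 P) := by
      obtain ⟨h1, -⟩ := (hasExchange P).exists_full.choose_spec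
      exact h1
    obtain ⟨u, hu, hue⟩ := (hasExchange P).exists_reduced_prefix hld l hl
    refine ⟨_, rfl, ?_⟩
    rw [show len P (wprod (BN.sigma P) l) = l.length from hl]
    have e : (wprod (BN.sigma P) l)⁻¹ * w0 P = wprod (BN.sigma P) u := by
      rw [← hue, wprod_append, inv_mul_cancel_left]
    rw [e]
    have h2 : len P (w0 P) = l.length + u.length := by
      rw [BN.IsReduced, hue, List.length_append] at hu
      exact hu
    have h3 := wlen_le (σ := BN.sigma P) u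
    have h4 : len P (w0 P) ≤ l.length + len P (wprod (BN.sigma P) u) := by
      obtain ⟨k, hk, hke⟩ := BN.exists_reduced (sigma_sq P) (closure_sigma P) (wprod (BN.sigma P) u)
      have h5 := wlen_le' (σ := BN.sigma P) (w := w0 P) (l ++ k) (by rw [wprod_append, hke, ← wprod_append, hue])
      rw [List.length_append, hk] at h5
      exact h5
    simp only [len] at h2 h3 h4 ⊢
    omega
  refine Fintype.sum_equiv ((Equiv.inv (Weyl P)).trans (Equiv.mulRight (w0 P))) _ _ fun w => ?_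
  rw [Finset.sum_congr rfl fun g hg => by rw [hd.orb_eq g, (Finset.mem_filter.1 hg).2], Finset.sum_const,
    hd.card_cellW, nsmul_eq_mul]
  obtain ⟨v, hv, hlen⟩ := hinv w
  simp only [Equiv.trans_apply, Equiv.inv_apply, Equiv.coe_mulRight]
  rw [← hv]
  have hne : (q : ℝ) ^ len P w ≠ 0 ∧ (q : ℝ) ^ len P v ≠ 0 := by
    rw [← hlen, pow_add, mul_ne_zero_iff] at h0; exact h0
  rw [← hlen]
  push_cast
  rw [pow_add]
  field_simp [hne.1, hne.2]

end Data

end Cfsg.Agent.HeckeU
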