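import Cfsg.Agent.Lib.Blocks.Local
import Mathlib

/-!
# A lattice criterion for dimension one

`finrank_eq_one`: if an `R`-order `O` in `End W` (`R` the local ring at a prime above `p`) is spanned
around a symmetrising family (two Schur identities with coefficients in `R`) and has a one-dimensional
character modulo the prime, then `W` is a line.
-/

set_option autoImplicit false

namespace Cfsg.Agent.HeckeU

open Cfsg Cfsg.Agent.Blocks LinearMap Module

variable {p : ℕ} {M : Ideal AlgInt} (hM : IsPModular p M)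

/-- The local ring. -/
def locR : Subring ℂ where
  carrier := {z | MemLocalRing M z}
  mul_mem' := memR_mul hM
  one_mem' := memR_one hM
  add_mem' := memR_add hM
  zero_mem' := memR_zero hM
  neg_mem' := memR_neg

/-- Its maximal ideal. -/
def locI : Ideal (locR hM) where
  carrier := {z | MemLocalIdeal M (z : ℂ)}
  add_mem' := memI_add hM
  zero_mem' := memI_zero hM
  smul_mem' c _ hx := memI_mul_left hM c.2 hx

theorem mem_locI {z : locR hM} : z ∈ locI hM ↔ MemLocalIdeal M (z : ℂ) := Iff.rfl

theorem isUnit_of_not_memI {z : locR hM} (h : z ∉ locI hM) : IsUnit z :=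
  IsUnit.of_mul_eq_one ⟨(z : ℂ)⁻¹, memR_inv hM z.2 h⟩
    (Subtype.ext (mul_inv_cancel₀ (ne_zero_of_not_memI hM h)))

theorem locI_le_jacobson : locI hM ≤ Ideal.jacobson ⊥ := by
  intro x hx
  rw [Ideal.mem_jacobson_bot]
  intro y
  refine isUnit_of_not_memI hM fun h => not_memI_one hM ?_
  have h1 : (x * y + 1) - x * y ∈ locI hM := Submodule.sub_mem _ h (Ideal.mul_mem_right _ _ hx)
  rw [add_sub_cancel_left] at h1
  simpa [mem_locI] using h1

/-- The local ring is integrally closed in `ℂ`. -/
theorem mem_locR_of_isIntegral {z : ℂ} (hz : IsIntegral (locR hM) z) : z ∈ locR hM := by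
  classical
  obtain ⟨P, hP, hev⟩ := hz
  let num : ℕ → AlgInt := fun i => (P.coeff i).2.choose
  let den : ℕ → AlgInt := fun i => (P.coeff i).2.choose_spec.choose
  have hden : ∀ i, den i ∉ M := fun i => (P.coeff i).2.choose_spec.choose_spec.1
  have hfrac : ∀ i, (num i : ℂ) / (den i : ℂ) = ((P.coeff i : locR hM) : ℂ) :=
    fun i => (P.coeff i).2.choose_spec.choose_spec.2
  set n := P.natDegree with hn
  set b : AlgInt := ∏ i ∈ Finset.range n, den i with hb
  have hbM : b ∉ M := Finset.prod_induction den (fun x => x ∉ M) (fun _ _ => pmod_mul_notMem hM)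
    (pmod_one_notMem hM) fun i _ => hden i
  have hPm : (P.map (algebraMap (locR hM) ℂ)).Monic := hP.map _
  have hdeg : (P.map (algebraMap (locR hM) ℂ)).natDegree = n := hP.natDegree_map _
  set Q := (P.map (algebraMap (locR hM) ℂ)).scaleRoots (b : ℂ) with hQ
  have hlift : Q ∈ Polynomial.lifts (algebraMap AlgInt ℂ) := by
    refine (Polynomial.lifts_iff_coeff_lifts _).2 fun i => ?_
    rw [hQ, Polynomial.coeff_scaleRoots, Polynomial.coeff_map, hdeg]
    rcases lt_trichotomy i n with hi | rfl | hi
    · refine ⟨num i * (∏ j ∈ (Finset.range n).erase i, den j) * b ^ (n - i - 1), ?_⟩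
      have e : b = den i * ∏ j ∈ (Finset.range n).erase i, den j :=
        (Finset.mul_prod_erase _ _ (Finset.mem_range.2 hi)).symm
      show ((num i * (∏ j ∈ (Finset.range n).erase i, den j) * b ^ (n - i - 1) : AlgInt) : ℂ) =
        ((P.coeff i : locR hM) : ℂ) * (b : ℂ) ^ (n - i)
      rw [← hfrac, show n - i = (n - i - 1) + 1 by omega, pow_succ]
      conv_rhs => arg 2; arg 2; rw [e]
      have := pmod_ne_zero (hden i)
      push_cast
      field_simp
    · exact ⟨1, by rw [hn, hP.coeff_natDegree]; simp⟩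
    · exact ⟨0, by rw [Polynomial.coeff_eq_zero_of_natDegree_lt hi]; simp⟩
  have hQm : Q.Monic := (Polynomial.monic_scaleRoots_iff _).2 hPm
  obtain ⟨Q', hQ', -, hQ'm⟩ := Polynomial.lifts_and_degree_eq_and_monic hlift hQm
  have hroot : Q.eval ((b : ℂ) * z) = 0 := by
    rw [hQ]
    have := Polynomial.scaleRoots_eval₂_eq_zero (p := P.map (algebraMap (locR hM) ℂ)) (RingHom.id ℂ)
      (r := z) (s := (b : ℂ)) (by rw [Polynomial.eval₂_map]; simpa using hev)
    simpa [Polynomial.eval₂_id] using this
  have hint : IsIntegral AlgInt ((b : ℂ) * z) :=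
    ⟨Q', hQ'm, by rw [← Polynomial.eval_map, hQ']; exact hroot⟩
  refine ⟨⟨(b : ℂ) * z, isIntegral_trans (R := ℤ) _ hint⟩, b, hbM, ?_⟩
  exact mul_div_cancel_left₀ z (pmod_ne_zero hbM)

variable {W : Type*} [AddCommGroup W] [Module ℂ W] [FiniteDimensional ℂ W]

theorem mul_mem_smul {O : Submodule (locR hM) (End ℂ W)} (hmul : ∀ a ∈ O, ∀ b ∈ O, a * b ∈ O)
    {b x : End ℂ W} (hb : b ∈ O) (hx : x ∈ locI hM • O) : b * x ∈ locI hM • O := by
  refine Submodule.smul_induction_on hx (fun r hr y hy => ?_) (fun y y' hy hy' => ?_)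
  · rw [Algebra.mul_smul_comm]
    exact Submodule.smul_mem_smul hr (hmul b hb y hy)
  · rw [mul_add]
    exact add_mem hy hy'

theorem finrank_eq_one {ι : Type*} [Fintype ι] (T T' : ι → End ℂ W) (γ : ι → ℂ)
    (hγ : ∀ i, MemLocalRing M (γ i)) (O : Submodule (locR hM) (End ℂ W)) (hfg : O.FG) (h1 : (1 : End ℂ W) ∈ O)
    (hmul : ∀ a ∈ O, ∀ b ∈ O, a * b ∈ O) (hT : ∀ i, T i ∈ O) (hT' : ∀ i, T' i ∈ O)
    (htr : ∀ b, ∑ i, (γ i * LinearMap.trace ℂ W (T' i * b)) • T i = b)
    (hcj : ∀ b, ∑ i, γ i • (T i * b * T' i) = LinearMap.trace ℂ W b • 1)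
    (u : End ℂ W) (hu : u ∈ O) (huI : u ∉ locI hM • O)
    (hchar : ∀ b ∈ O, ∃ r : ℂ, MemLocalRing M r ∧ b * u - r • u ∈ locI hM • O) :
    finrank ℂ W = 1 := by
  classical
  have smulR : ∀ {r : ℂ}, MemLocalRing M r → ∀ {x : End ℂ W}, x ∈ O → r • x ∈ O :=
    fun hr _ hx => O.smul_mem (⟨_, hr⟩ : locR hM) hx
  have smulI : ∀ {r : ℂ}, MemLocalIdeal M r → ∀ {x : End ℂ W}, x ∈ O → r • x ∈ locI hM • O :=
    fun hr _ hx => Submodule.smul_mem_smul (r := (⟨_, memR_of_memI hr⟩ : locR hM)) hr hx
  have smulRI : ∀ {r : ℂ}, MemLocalRing M r → ∀ {x : End ℂ W}, x ∈ locI hM • O → r • x ∈ locI hM • O :=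
    fun hr _ hx => (locI hM • O).smul_mem (⟨_, hr⟩ : locR hM) hx
  have hW : Nontrivial W := by
    by_contra h
    rw [not_nontrivial_iff_subsingleton] at h
    exact huI (Subsingleton.elim (0 : End ℂ W) u ▸ zero_mem _)
  have hinj : Function.Injective (fun z : ℂ => z • (1 : End ℂ W)) := smul_left_injective ℂ one_ne_zero
  have hscalar : ∀ z : ℂ, z • (1 : End ℂ W) ∈ O → MemLocalRing M z := by
    intro z hz
    refine mem_locR_of_isIntegral hM ?_
    let S : Subalgebra (locR hM) (End ℂ W) := O.toSubalgebra h1 fun a b ha hb => hmul a ha b hb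
    have hS : (Subalgebra.toSubmodule S).FG := by
      rwa [Submodule.toSubalgebra_toSubmodule]
    have h2 : IsIntegral (locR hM) (algebraMap ℂ (End ℂ W) z) := by
      refine IsIntegral.of_mem_of_fg S hS _ ?_
      rw [Algebra.algebraMap_eq_smul_one]
      exact hz
    exact (isIntegral_algebraMap_iff (fun a b h => hinj (by simpa [Algebra.algebraMap_eq_smul_one] using h))).1 h2
  have htrR : ∀ b ∈ O, MemLocalRing M (LinearMap.trace ℂ W b) := by
    intro b hb
    refine hscalar _ ?_
    rw [← hcj b]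
    exact Submodule.sum_mem _ fun i _ => smulR (hγ i) (hmul _ (hmul _ (hT i) _ hb) _ (hT' i))
  -- the character modulo the prime
  have huniq : ∀ {r s : ℂ}, MemLocalRing M r → MemLocalRing M s → ∀ {b : End ℂ W},
      b * u - r • u ∈ locI hM • O → b * u - s • u ∈ locI hM • O → MemLocalIdeal M (r - s) := by
    intro r s hr hs b hbr hbs
    by_contra hns
    have h := smulRI (memR_inv hM (memR_sub hM hr hs) hns) (sub_mem hbs hbr)
    rw [show b * u - s • u - (b * u - r • u) = (r - s) • u by rw [sub_smul]; abel, smul_smul,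
      inv_mul_cancel₀ (ne_zero_of_not_memI hM hns), one_smul] at h
    exact huI h
  choose! φ hφR hφ using hchar
  have hφmul : ∀ a ∈ O, ∀ b ∈ O, MemLocalIdeal M (φ (a * b) - φ a * φ b) := by
    intro a ha b hb
    refine huniq (hφR _ (hmul a ha b hb)) (memR_mul hM (hφR a ha) (hφR b hb)) (hφ _ (hmul a ha b hb)) ?_
    have e1 := mul_mem_smul hM hmul ha (hφ b hb)
    have e2 := smulRI (hφR b hb) (hφ a ha)
    have := add_mem e1 e2
    convert this using 1
    rw [mul_sub, mul_smul_comm, smul_sub, smul_smul, mul_assoc, mul_comm (φ b)]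
    abel
  set m : ℂ := LinearMap.trace ℂ W 1 with hm
  have hmR : MemLocalRing M m := htrR 1 h1
  have key : ∀ b ∈ O, MemLocalIdeal M (φ b * m - LinearMap.trace ℂ W b) := by
    intro b hb
    set c := ∑ i, γ i * (φ (T i) * φ (T' i)) with hc
    have hcR : MemLocalRing M c := memR_sum hM _ fun i _ =>
      memR_mul hM (hγ i) (memR_mul hM (hφR _ (hT i)) (hφR _ (hT' i)))
    have step : ∀ x ∈ O, MemLocalIdeal M (φ x * c - LinearMap.trace ℂ W x) := by
      intro x hx
      refine huniq (b := LinearMap.trace ℂ W x • 1) (memR_mul hM (hφR x hx) hcR) (htrR x hx) ?_ ?_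
      · have h : ∀ i, γ i • (T i * x * T' i * u - (φ (T i) * φ x * φ (T' i)) • u) ∈ locI hM • O := by
          intro i
          refine smulRI (hγ i) ?_
          have hh := hmul _ (hT i) _ hx
          have h2 : MemLocalIdeal M (φ (T i * x * T' i) - φ (T i) * φ x * φ (T' i)) := by
            refine memI_sub_trans hM (hφmul _ hh _ (hT' i)) ?_
            rw [← sub_mul]
            exact memI_mul_right hM (hφmul _ (hT i) _ hx) (hφR _ (hT' i))
          have := add_mem (hφ _ (hmul _ hh _ (hT' i))) (smulI h2 hu)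
          convert this using 1
          rw [sub_smul]; abel
        have := Submodule.sum_mem _ fun i (_ : i ∈ Finset.univ) => h i
        convert this using 1
        rw [← hcj x, Finset.sum_mul, hc, Finset.mul_sum, Finset.sum_smul, ← Finset.sum_sub_distrib]
        refine Finset.sum_congr rfl fun i _ => ?_
        rw [smul_mul_assoc, smul_sub, smul_smul]
        congr 2
        ring
      · rw [smul_mul_assoc, one_mul, sub_self]
        exact zero_mem _
    have hφ1 : MemLocalIdeal M (φ 1 - 1) := huniq (hφR 1 h1) (memR_one hM) (hφ 1 h1) (by simp)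
    have hcm : MemLocalIdeal M (c - m) := by
      have := step 1 h1
      have h2 := memI_mul_right hM hφ1 hcR
      convert memI_sub hM this h2 using 1
      ring
    have := memI_add hM (step b hb) (memI_mul_left hM (hφR b hb) (memI_sub_comm hcm))
    convert this using 1
    ring
  by_cases hmI : MemLocalIdeal M m
  · exfalso
    have hall : ∀ b ∈ O, MemLocalIdeal M (LinearMap.trace ℂ W b) := by
      intro b hb
      have := memI_sub hM (memI_mul_left hM (hφR b hb) hmI) (key b hb)
      simpa using this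
    refine huI ?_
    rw [← htr u]
    exact Submodule.sum_mem _ fun i _ => smulI (memI_mul_left hM (hγ i) (hall _ (hmul _ (hT' i) _ hu))) (hT i)
  have hminv := memR_inv hM hmR hmI
  have hle : O ≤ Submodule.span (locR hM) {(1 : End ℂ W)} := by
    refine Submodule.le_of_le_smul_of_le_jacobson_bot hfg (locI_le_jacobson hM) fun b hb => ?_
    set t := m⁻¹ * LinearMap.trace ℂ W b with ht
    have htR : MemLocalRing M t := memR_mul hM hminv (htrR b hb)
    set b' := b - t • 1 with hb'
    have hb'O : b' ∈ O := sub_mem hb (smulR htR h1)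
    have hb'φ : MemLocalIdeal M (φ b') := by
      have h1' : LinearMap.trace ℂ W b' = 0 := by
        rw [hb', map_sub, map_smul, ← hm, smul_eq_mul, ht]
        field_simp [ne_zero_of_not_memI hM hmI]
        ring
      have := key b' hb'O
      rw [h1', sub_zero] at this
      exact (memI_or_memI hM (hφR _ hb'O) hmR this).resolve_right hmI
    have hb'I : b' ∈ locI hM • O := by
      rw [← htr b']
      refine Submodule.sum_mem _ fun i _ => smulI (memI_mul_left hM (hγ i) ?_) (hT i)
      have h2 := memI_add hM (hφmul _ (hT' i) _ hb'O) (memI_mul_left hM (hφR _ (hT' i)) hb'φ)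
      rw [sub_add_cancel] at h2
      have h3 := memI_sub hM (memI_mul_right hM h2 hmR) (key _ (hmul _ (hT' i) _ hb'O))
      simpa using h3
    rw [show b = t • 1 + b' by rw [hb']; abel]
    exact Submodule.add_mem_sup (Submodule.mem_span_singleton.2 ⟨⟨t, htR⟩, rfl⟩) hb'I
  have hall : ∀ b : End ℂ W, ∃ z : ℂ, z • (1 : End ℂ W) = b := by
    intro b
    have hspan : b ∈ Submodule.span ℂ {(1 : End ℂ W)} := by
      rw [← htr b]
      refine Submodule.sum_mem _ fun i _ => Submodule.smul_mem _ _ ?_
      exact Submodule.span_le_restrictScalars (locR hM) ℂ _ (hle (hT i))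
    exact Submodule.mem_span_singleton.1 hspan
  have h := _root_.finrank_eq_one (1 : End ℂ W) one_ne_zero hall
  rw [Module.finrank_linearMap] at h
  exact Nat.eq_one_of_mul_eq_one_left h

end Cfsg.Agent.HeckeU
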