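import Cfsg.Agent.Lib.HeckeU.Reduce
import Cfsg.Agent.Lib.HeckeU.Integral
import Cfsg.Agent.Lib.Blocks.Induced
import Cfsg.Agent.Lib.Char.PRegular

/-!
# A character of defect zero has a one-dimensional space of `U`-fixed vectors

`finrank_W_eq_one`: if the degree is divisible by `|U|` the fixed space is a line. The span `O` of the
Hecke operators over the local ring has, modulo the prime, a vector sent to multiples of itself
(a longest `T_w v ≠ 0` for an eigenvector `v` of the torus).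
-/

set_option autoImplicit false

namespace Cfsg.Agent.HeckeU

open Cfsg Cfsg.Agent.BN Cfsg.Agent.Blocks LinearMap Module

variable {G : Type*} [Group G] [Fintype G] {P : Cfsg.BNPair G} {U : Subgroup G} {p q : ℕ}
  (hd : Data P U p q) {n : ℕ} (ρ : Representation ℂ G (Fin n → ℂ)) [Fintype U]
  {M : Ideal AlgInt} (hM : IsPModular p M)

variable (U) in
/-- The span of the Hecke operators over the local ring. -/
noncomputable def heckeSpan : Submodule (locR hM) (End ℂ (W ρ U)) :=
  Submodule.span (locR hM) (Set.range (T ρ U))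

omit [Fintype G] in
theorem T_mem (g : G) : T ρ U g ∈ heckeSpan U ρ hM := Submodule.subset_span ⟨g, rfl⟩

omit [Fintype G] in
theorem smul_mem_R {r : ℂ} (hr : MemLocalRing M r) {S : Submodule (locR hM) (End ℂ (W ρ U))}
    {x : End ℂ (W ρ U)} (hx : x ∈ S) : r • x ∈ S := S.smul_mem (⟨r, hr⟩ : locR hM) hx

omit [Fintype G] in
theorem smul_mem_I {r : ℂ} (hr : MemLocalIdeal M r) {S : Submodule (locR hM) (End ℂ (W ρ U))}
    {x : End ℂ (W ρ U)} (hx : x ∈ S) : r • x ∈ locI hM • S :=
  Submodule.smul_mem_smul (r := (⟨r, memR_of_memI hr⟩ : locR hM)) hr hx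

include hd

theorem T_simple_mul_mem {s : G} (hs : s ∈ P.S) (g : G) :
    T ρ U s * T ρ U g ∈ heckeSpan U ρ hM := by
  obtain ⟨b, hb, hg⟩ := hd.exists_rep g
  rw [T_congr ρ U hg]
  rcases simple_cases hd ρ hs hb with ⟨-, e⟩ | ⟨-, hx, hxH, e⟩
  · rw [e]; exact T_mem ρ hM _
  · rw [e]
    refine add_mem (smul_mem_R ρ hM (memR_natCast hM q) (T_mem ρ hM _)) (Submodule.sum_mem _ fun i _ => ?_)
    rw [T_mul_H hd ρ (hxH i)]
    exact T_mem ρ hM _

theorem T_mul_mem (g g' : G) : T ρ U g * T ρ U g' ∈ heckeSpan U ρ hM := by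
  obtain ⟨b, hb, hg⟩ := hd.exists_rep g
  rw [T_congr ρ U hg]
  induction hk : len P (cellW P b) generalizing b g' g with
  | zero =>
    rw [T_H_mul hd ρ (Subgroup.mem_inf.2 ⟨(mem_C_one_iff P).1 ?_, hb⟩)]
    · exact T_mem ρ hM _
    · rw [← wlen_eq_zero (sigma_sq P) (closure_sigma P) hk]
      exact mem_cellW P b
  | succ k ih =>
    obtain ⟨s, hs, b', hb', hk', -, e⟩ := exists_split hd ρ hb hk
    rw [e, mul_assoc]
    have h1 := ih b' g' b' hb' (DoubleCoset.mem_doubleCoset.2 ⟨1, one_mem _, 1, one_mem _, by simp⟩) hk'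
    refine Submodule.span_induction (p := fun x _ => T ρ U s * x ∈ heckeSpan U ρ hM) ?_ ?_ ?_ ?_ h1
    · rintro _ ⟨x, rfl⟩; exact T_simple_mul_mem hd ρ hM hs x
    · rw [mul_zero]; exact zero_mem _
    · intro x y _ _ hx hy; rw [mul_add]; exact add_mem hx hy
    · intro a x _ hx; rw [mul_smul_comm]; exact Submodule.smul_mem _ a hx

theorem span_mul_mem : ∀ a ∈ heckeSpan U ρ hM, ∀ b ∈ heckeSpan U ρ hM, a * b ∈ heckeSpan U ρ hM := by
  intro a ha b hb
  refine Submodule.span_induction (p := fun x _ => x * b ∈ heckeSpan U ρ hM) ?_ ?_ ?_ ?_ ha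
  · rintro _ ⟨g, rfl⟩
    refine Submodule.span_induction (p := fun x _ => T ρ U g * x ∈ heckeSpan U ρ hM) ?_ ?_ ?_ ?_ hb
    · rintro _ ⟨x, rfl⟩; exact T_mul_mem hd ρ hM g x
    · rw [mul_zero]; exact zero_mem _
    · intro x y _ _ hx hy; rw [mul_add]; exact add_mem hx hy
    · intro a x _ hx; rw [mul_smul_comm]; exact Submodule.smul_mem _ a hx
  · rw [zero_mul]; exact zero_mem _
  · intro x y _ _ hx hy; rw [add_mul]; exact add_mem hx hy
  · intro r x _ hx; rw [smul_mul_assoc]; exact Submodule.smul_mem _ r hx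

omit [Fintype G] in
theorem T_one [Finite G] : T ρ U 1 = 1 := by
  rw [T, orb_H hd (one_mem _), Nat.cast_one, one_smul, op_one]

theorem one_mem_span : (1 : End ℂ (W ρ U)) ∈ heckeSpan U ρ hM := T_one hd ρ ▸ T_mem ρ hM 1

theorem T_H_pow {h : G} (hh : h ∈ P.B ⊓ P.N) (k : ℕ) : T ρ U h ^ k = T ρ U (h ^ k) := by
  induction k with
  | zero => rw [pow_zero, pow_zero, T_one hd ρ]
  | succ k ih => rw [pow_succ, ih, T_mul_H hd ρ hh, ← pow_succ]

/-- An eigenvector of the torus modulo the prime. -/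
theorem exists_eigen [Nontrivial (W ρ U)] :
    ∃ v ∈ heckeSpan U ρ hM, v ∉ locI hM • heckeSpan U ρ hM ∧ ∀ h ∈ P.B ⊓ P.N,
      ∃ r : ℂ, MemLocalRing M r ∧ T ρ U h * v - r • v ∈ locI hM • heckeSpan U ρ hM := by
  classical
  set O := heckeSpan U ρ hM with hO
  have hfg : O.FG := Submodule.fg_span (Set.finite_range _)
  suffices key : ∀ L : List G, (∀ h ∈ L, h ∈ P.B ⊓ P.N) → ∃ v ∈ O, v ∉ locI hM • O ∧
      ∀ h ∈ L, ∃ r : ℂ, MemLocalRing M r ∧ T ρ U h * v - r • v ∈ locI hM • O by
    obtain ⟨v, hv, hv', h⟩ := key ((Finset.univ.filter fun h => h ∈ P.B ⊓ P.N).toList) (by simp)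
    exact ⟨v, hv, hv', fun h' hh' => h h' (Finset.mem_toList.2 (Finset.mem_filter.2 ⟨Finset.mem_univ _, hh'⟩))⟩
  intro L
  induction L with
  | nil =>
    intro _
    refine ⟨1, one_mem_span hd ρ hM, fun h1 => ?_, by simp⟩
    have hle : O ≤ ⊥ := Submodule.le_of_le_smul_of_le_jacobson_bot hfg (locI_le_jacobson hM) fun b hb => by
      rw [bot_sup_eq, ← mul_one b]
      exact mul_mem_smul hM (span_mul_mem hd ρ hM) hb h1
    exact one_ne_zero ((Submodule.mem_bot _).1 (hle (one_mem_span hd ρ hM)))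
  | cons h L ih =>
    intro hL
    obtain ⟨v, hv, hvI, hvL⟩ := ih fun a ha => hL a (List.mem_cons_of_mem _ ha)
    have hh := hL h (by simp)
    have he : 0 < orderOf h := orderOf_pos h
    set R := Polynomial.nthRootsFinset (orderOf h) (1 : ℂ) with hR
    have hprod : ((R.toList.map fun ζ => T ρ U h - ζ • (1 : End ℂ (W ρ U))).prod) * v = 0 := by
      have e1 : Polynomial.aeval (T ρ U h) ((R.toList.map fun ζ => Polynomial.X - Polynomial.C ζ).prod) =
          (R.toList.map fun ζ => T ρ U h - ζ • (1 : End ℂ (W ρ U))).prod := by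
        rw [map_list_prod, List.map_map]
        congr 1
        refine List.map_congr_left fun ζ _ => ?_
        simp [Algebra.algebraMap_eq_smul_one]
      rw [← e1, Finset.prod_map_toList,
        ← Polynomial.X_pow_sub_one_eq_prod he (Complex.isPrimitiveRoot_exp _ he.ne'), map_sub, map_pow,
        Polynomial.aeval_X, map_one, T_H_pow hd ρ hh, pow_orderOf_eq_one, T_one hd ρ, sub_self, zero_mul]
    have step : ∀ l : List ℂ, (∀ ζ ∈ l, ζ ^ orderOf h = 1) →
        ((l.map fun ζ => T ρ U h - ζ • (1 : End ℂ (W ρ U))).prod) * v ∈ locI hM • O →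
        ∃ w ∈ O, w ∉ locI hM • O ∧ ∀ a ∈ h :: L, ∃ r : ℂ, MemLocalRing M r ∧
          T ρ U a * w - r • w ∈ locI hM • O := by
      intro l
      induction l with
      | nil => intro _ h0; exact absurd (by simpa using h0) hvI
      | cons ζ l ihl =>
        intro hl h0
        set A := (l.map fun ζ => T ρ U h - ζ • (1 : End ℂ (W ρ U))).prod with hA
        by_cases hx : A * v ∈ locI hM • O
        · exact ihl (fun z hz => hl z (List.mem_cons_of_mem _ hz)) hx
        have hR' : ∀ z ∈ ζ :: l, MemLocalRing M z := fun z hz =>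
          memR_of_isIntegral hM (IsIntegral.of_pow he (by rw [hl z hz]; exact isIntegral_one))
        have hAO : A ∈ O := by
          rw [hA]
          refine List.prod_induction (fun x => x ∈ O) (fun a b ha hb => span_mul_mem hd ρ hM a ha b hb)
            (one_mem_span hd ρ hM) fun x hx' => ?_
          obtain ⟨z, hz, rfl⟩ := List.mem_map.1 hx'
          exact sub_mem (T_mem ρ hM _) (smul_mem_R ρ hM (hR' z (List.mem_cons_of_mem _ hz)) (one_mem_span hd ρ hM))
        refine ⟨A * v, span_mul_mem hd ρ hM _ hAO _ hv, hx, ?_⟩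
        intro a ha
        rcases List.mem_cons.1 ha with rfl | ha'
        · refine ⟨ζ, hR' ζ (by simp), ?_⟩
          rw [List.map_cons, List.prod_cons, mul_assoc] at h0
          rwa [sub_mul, smul_mul_assoc, one_mul] at h0
        · obtain ⟨r, hr, hra⟩ := hvL a ha'
          refine ⟨r, hr, ?_⟩
          have hcomm : Commute (T ρ U a) A := by
            rw [hA]
            refine Commute.list_prod_right _ _ fun x hx' => ?_
            obtain ⟨z, -, rfl⟩ := List.mem_map.1 hx'
            refine Commute.sub_right ?_ ((Commute.one_right _).smul_right z)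
            show T ρ U a * T ρ U h = T ρ U h * T ρ U a
            rw [T_H_mul hd ρ (hL a ha), T_H_mul hd ρ hh, hd.comm a (hL a ha) h hh]
          have := mul_mem_smul hM (span_mul_mem hd ρ hM) hAO hra
          rwa [mul_sub, ← mul_assoc, ← hcomm.eq, mul_assoc, mul_smul_comm] at this
    exact step R.toList (fun ζ hζ => (Polynomial.mem_nthRootsFinset he (1 : ℂ)).1 (Finset.mem_toList.1 hζ))
      (by rw [hprod]; exact zero_mem _)

/-- A vector with a character modulo the prime. -/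
theorem exists_character [Nontrivial (W ρ U)] :
    ∃ u ∈ heckeSpan U ρ hM, u ∉ locI hM • heckeSpan U ρ hM ∧ ∀ b ∈ heckeSpan U ρ hM,
      ∃ r : ℂ, MemLocalRing M r ∧ b * u - r • u ∈ locI hM • heckeSpan U ρ hM := by
  classical
  set O := heckeSpan U ρ hM with hO
  obtain ⟨v, hv, hvI, heig⟩ := exists_eigen hd ρ hM
  obtain ⟨w, hw, hmax⟩ := Finset.exists_max_image
    (Finset.univ.filter fun b => b ∈ P.N ∧ T ρ U b * v ∉ locI hM • O) (fun b => len P (cellW P b))
    ⟨1, Finset.mem_filter.2 ⟨Finset.mem_univ _, one_mem _, by rw [T_one hd ρ, one_mul]; exact hvI⟩⟩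
  rw [Finset.mem_filter] at hw
  obtain ⟨-, hwN, hwI⟩ := hw
  set u := T ρ U w * v with hu
  have huO : u ∈ O := span_mul_mem hd ρ hM _ (T_mem ρ hM w) _ hv
  refine ⟨u, huO, hwI, ?_⟩
  have hH : ∀ h ∈ P.B ⊓ P.N, ∃ r : ℂ, MemLocalRing M r ∧ T ρ U h * u - r • u ∈ locI hM • O := by
    intro h hh
    have hh' := hd.conj_H' hwN hh
    obtain ⟨r, hr, e⟩ := heig _ hh'
    refine ⟨r, hr, ?_⟩
    have := mul_mem_smul hM (span_mul_mem hd ρ hM) (T_mem ρ hM w) e
    rwa [mul_sub, mul_smul_comm, ← mul_assoc, T_mul_H hd ρ hh', show w * (w⁻¹ * h * w) = h * w by group,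
      ← T_H_mul hd ρ hh, mul_assoc] at this
  have hS : ∀ s ∈ P.S, ∃ r : ℂ, MemLocalRing M r ∧ T ρ U s * u - r • u ∈ locI hM • O := by
    intro s hs
    rcases simple_cases hd ρ hs hwN with ⟨hlen, e⟩ | ⟨-, hx, hxH, e⟩
    · refine ⟨0, memR_zero hM, ?_⟩
      rw [zero_smul, sub_zero, hu, ← mul_assoc, e]
      by_contra hI
      have := hmax (s * w) (Finset.mem_filter.2 ⟨Finset.mem_univ _, mul_mem (P.subset hs) hwN, hI⟩)
      omega
    · choose r hr hre using fun i => heig _ (hxH i)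
      refine ⟨∑ i, r i, memR_sum hM _ fun i _ => hr i, ?_⟩
      rw [hu, ← mul_assoc, e, add_mul, smul_mul_assoc, Finset.sum_mul, Finset.sum_smul, add_sub_assoc,
        ← Finset.sum_sub_distrib]
      refine add_mem (smul_mem_I ρ hM ((memI_natCast hM).2 hd.p_dvd)
        (span_mul_mem hd ρ hM _ (T_mem ρ hM _) _ hv)) (Submodule.sum_mem _ fun i _ => ?_)
      have := mul_mem_smul hM (span_mul_mem hd ρ hM) (T_mem ρ hM w) (hre i)
      rwa [mul_sub, mul_smul_comm, ← mul_assoc] at this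
  have hN : ∀ k, ∀ b ∈ P.N, len P (cellW P b) = k →
      ∃ r : ℂ, MemLocalRing M r ∧ T ρ U b * u - r • u ∈ locI hM • O := by
    intro k
    induction k with
    | zero =>
      intro b hb hk
      refine hH b (Subgroup.mem_inf.2 ⟨(mem_C_one_iff P).1 ?_, hb⟩)
      rw [← wlen_eq_zero (sigma_sq P) (closure_sigma P) hk]
      exact mem_cellW P b
    | succ k ih =>
      intro b hb hk
      obtain ⟨s, hs, b', hb', hk', -, e⟩ := exists_split hd ρ hb hk
      obtain ⟨r, hr, hre⟩ := ih b' hb' hk'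
      obtain ⟨r', hr', hre'⟩ := hS s hs
      refine ⟨r * r', memR_mul hM hr hr', ?_⟩
      have := add_mem (mul_mem_smul hM (span_mul_mem hd ρ hM) (T_mem ρ hM s) hre) (smul_mem_R ρ hM hr hre')
      rw [e]
      convert this using 1
      rw [mul_sub, mul_smul_comm, smul_sub, smul_smul, mul_assoc]
      abel
  intro b hb
  refine Submodule.span_induction (p := fun x _ => ∃ r : ℂ, MemLocalRing M r ∧
    x * u - r • u ∈ locI hM • O) ?_ ?_ ?_ ?_ hb
  · rintro _ ⟨g, rfl⟩
    obtain ⟨b', hb', hg⟩ := hd.exists_rep g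
    rw [T_congr ρ U hg]
    exact hN _ b' hb' rfl
  · exact ⟨0, memR_zero hM, by simp⟩
  · rintro x y - - ⟨r, hr, hx⟩ ⟨r', hr', hy⟩
    refine ⟨r + r', memR_add hM hr hr', ?_⟩
    convert add_mem hx hy using 1
    rw [add_mul, add_smul]
    abel
  · rintro a x - ⟨r, hr, hx⟩
    refine ⟨(a : ℂ) * r, memR_mul hM a.2 hr, ?_⟩
    have := smul_mem_R ρ hM (S := locI hM • O) a.2 hx
    rw [smul_sub, smul_smul, ← smul_mul_assoc] at this
    exact this

omit [Fintype U] in
theorem factorization_card :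
    (Nat.card G).factorization p = (Nat.card U).factorization p := by
  rw [← Subgroup.card_mul_index U, Nat.factorization_mul Nat.card_pos.ne' Subgroup.FiniteIndex.index_ne_zero,
    Finsupp.add_apply, Nat.factorization_eq_zero_of_not_dvd hd.index_prime_to, add_zero]

/-- The dimension of the fixed space is `χ(1) / |U|`. -/
theorem finrank_W [ρ.IsIrreducible] (hdeg : Nat.card U ∣ n) :
    (n : ℂ) = (Nat.card U : ℂ) * finrank ℂ (W ρ U) := by
  classical
  have hirr : IsIrrCharacter G ρ.character := ⟨n, ρ, inferInstance, rfl⟩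
  have hn1 : ρ.character 1 = (n : ℂ) := by simp
  have hn0 : n ≠ 0 := by
    intro h
    exact deg_ne_zero ρ (by rw [h]; simp)
  have hvan : ∀ u : U, u ≠ 1 → ρ.character (u : G) = 0 := by
    intro u hu
    refine Char.vanishes_of_defect_zero hd.prime hirr hn1 ?_ _ ?_
    · rw [factorization_card hd]
      exact (Nat.factorization_le_iff_dvd Nat.card_pos.ne' hn0).2 hdeg p
    · obtain ⟨k, hk⟩ := hd.pgroup u
      obtain ⟨j, -, hj⟩ := (Nat.dvd_prime_pow hd.prime).1 (orderOf_dvd_of_pow_eq_one hk)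
      rw [Subgroup.orderOf_coe, hj]
      refine dvd_pow_self p fun h0 => hu ?_
      rw [h0, pow_zero] at hj
      exact orderOf_eq_one_iff.1 hj
  rw [← trace_op_one, trace_op, Finset.sum_eq_single (1 : U) (fun u _ hu => by rw [one_mul]; exact hvan u hu)
    (by simp), OneMemClass.coe_one, one_mul, hn1, mul_inv_cancel_left₀ (Nat.cast_ne_zero.2 Nat.card_pos.ne')]

include hM in
theorem memR_gam (hn : (n : ℂ) = (Nat.card U : ℂ) * finrank ℂ (W ρ U)) (g : G) :
    MemLocalRing M (gam U ρ g) := by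
  obtain ⟨c, hc⟩ := orb_dvd U g
  have e : gam U ρ g = (finrank ℂ (W ρ U) : ℂ) * (c : ℂ) * ((U.index : ℕ) : ℂ)⁻¹ := by
    have h1 : (orb U g : ℂ) ≠ 0 := Nat.cast_ne_zero.2 (orb_pos U g).ne'
    have h3 : (U.index : ℂ) ≠ 0 := Nat.cast_ne_zero.2 Subgroup.FiniteIndex.index_ne_zero
    have h4 : (Nat.card U : ℂ) ≠ 0 := Nat.cast_ne_zero.2 Nat.card_pos.ne'
    have h5 : (Nat.card U : ℂ) = (orb U g : ℂ) * c := by rw [hc, Nat.cast_mul]
    rw [gam, hn, ← Subgroup.card_mul_index U, Nat.cast_mul]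
    rw [h5] at h4 ⊢
    have h2 := (mul_ne_zero_iff.1 h4).2
    field_simp
  rw [e]
  exact memR_mul hM (memR_mul hM (memR_natCast hM _) (memR_natCast hM _))
    (memR_natCast_inv hM hd.index_prime_to)

theorem finrank_W_eq_one [ρ.IsIrreducible] [Fintype (DoubleCoset.Quotient (U : Set G) U)]
    (hdeg : Nat.card U ∣ n) : finrank ℂ (W ρ U) = 1 := by
  classical
  obtain ⟨M, hM⟩ := Blocks.exists_isPModular hd.prime
  have hn := finrank_W hd ρ hdeg
  haveI : Nontrivial (W ρ U) := by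
    refine Module.nontrivial_of_finrank_pos (R := ℂ) (Nat.pos_of_ne_zero fun h => deg_ne_zero ρ ?_)
    rw [hn, h, Nat.cast_zero, mul_zero]
  obtain ⟨u, hu, huI, hchar⟩ := exists_character hd ρ hM
  refine @HeckeU.finrank_eq_one _ _ hM (W ρ U) _ _ _ (DoubleCoset.Quotient (U : Set G) U) _ (fun D => T ρ U D.out) (fun D => T ρ U D.out⁻¹) (fun D => gam U ρ D.out) ?a1 (heckeSpan U ρ hM) ?a2 ?a3 ?a4 ?a5 ?a6 ?a7 ?a8 u ?b1 ?b2 ?b3
  case a1 => exact fun D => memR_gam hd ρ hM hn D.out
  case a2 => exact Submodule.fg_span (Set.finite_range (T ρ U))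
  case a3 => exact one_mem_span hd ρ hM
  case a4 => exact span_mul_mem hd ρ hM
  case a5 => exact fun _ => T_mem ρ hM _
  case a6 => exact fun _ => T_mem ρ hM _
  case a7 => exact casimir_trace ρ U
  case a8 => exact casimir_conj ρ U
  case b1 => exact hu
  case b2 => exact huI
  case b3 => exact hchar

end Cfsg.Agent.HeckeU
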