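import Cfsg.Agent.Lib.HeckeU.Relations

/-!
# Products with the operator of a fundamental reflection

`len_N`, `exists_split`, `simple_cases`.
-/

set_option autoImplicit false

namespace Cfsg.Agent.HeckeU

open Cfsg.Agent.BN

variable {G : Type*} [Group G] [Finite G] {P : Cfsg.BNPair G} {U : Subgroup G} {p q : ℕ}
  (hd : Data P U p q) {n : ℕ} (ρ : Representation ℂ G (Fin n → ℂ)) [Fintype U]

omit [Finite G] [Fintype U] in
theorem cellW_N {b : G} (hb : b ∈ P.N) : cellW P b = BN.wOf P hb := cellW_eq P (self_mem_C P hb)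

include hd

theorem T_simple_up {s : G} (hs : s ∈ P.S) {b : G} (hb : b ∈ P.N)
    (h : len P (cellW P (s * b)) = len P (cellW P b) + 1) : T ρ U s * T ρ U b = T ρ U (s * b) := by
  refine T_mul_of_len hd ρ (P.subset hs) hb ?_
  rw [← wOf_mul P (P.subset hs) hb, ← cellW_N, h, cellW_N hb, wOf_S P ⟨s, hs⟩,
    show len P (BN.sigma P ⟨s, hs⟩) = 1 from (hasExchange P).wlen_sigma _, add_comm]

omit [Fintype U] [Finite G] hd in
theorem len_simple_mul {s : G} (hs : s ∈ P.S) {b : G} (hb : b ∈ P.N) :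
    len P (cellW P (s * b)) = len P (cellW P b) + 1 ∨
      len P (cellW P (s * b)) + 1 = len P (cellW P b) := by
  rw [cellW_N hb, cellW_N (mul_mem (P.subset hs) hb), wOf_mul P (P.subset hs) hb, wOf_S P ⟨s, hs⟩]
  exact (hasExchange P).wlen_sigma_mul_cases _ _

theorem exists_split {b : G} (hb : b ∈ P.N) {k : ℕ} (hk : len P (cellW P b) = k + 1) :
    ∃ s ∈ P.S, ∃ b' ∈ P.N, len P (cellW P b') = k ∧ b = s * b' ∧ T ρ U b = T ρ U s * T ρ U b' := by
  rw [cellW_N hb] at hk
  obtain ⟨l, hl, e⟩ := exists_isReduced (sigma_sq P) (closure_sigma P) (BN.wOf P hb)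
  have hlen : l.length = k + 1 := by rw [← hl, e]; exact hk
  match l, hlen, hl, e with
  | s :: l', hlen, hl, e =>
    have hb' : (s : G)⁻¹ * b ∈ P.N := mul_mem (inv_mem (P.subset s.2)) hb
    have h1 : len P (cellW P ((s : G)⁻¹ * b)) = k := by
      rw [cellW_N hb', wOf_mul P (inv_mem (P.subset s.2)) hb, wOf_inv P (P.subset s.2), wOf_S, ← e, wprod_cons,
        inv_mul_cancel_left]
      have ht := hl.tail (sigma_sq P) (closure_sigma P)
      rw [len, show wlen (BN.sigma P) (wprod (BN.sigma P) l') = l'.length from ht]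
      simpa using hlen
    refine ⟨s, s.2, _, hb', h1, by group, ?_⟩
    rw [T_simple_up hd ρ s.2 hb' (by rw [h1, mul_inv_cancel_left, cellW_N hb, hk]), mul_inv_cancel_left]

/-- `T_s T_b` is `T_{sb}` or a combination of `T_{sb}` and products `T_b T_h`. -/
theorem simple_cases {s : G} (hs : s ∈ P.S) {b : G} (hb : b ∈ P.N) :
    (len P (cellW P (s * b)) = len P (cellW P b) + 1 ∧ T ρ U s * T ρ U b = T ρ U (s * b)) ∨
      (len P (cellW P (s * b)) + 1 = len P (cellW P b) ∧ ∃ hx : Fin (q - 1) → G, (∀ i, hx i ∈ P.B ⊓ P.N) ∧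
        T ρ U s * T ρ U b = (q : ℂ) • T ρ U (s * b) + ∑ i, T ρ U b * T ρ U (hx i)) := by
  rcases len_simple_mul hs hb with h | h
  · exact Or.inl ⟨h, T_simple_up hd ρ hs hb h⟩
  refine Or.inr ⟨h, ?_⟩
  have hsN := P.subset hs
  have hb' : s⁻¹ * b ∈ P.N := mul_mem (inv_mem hsN) hb
  have e1 : cellW P (s⁻¹ * b) = cellW P (s * b) := by
    rw [show s * b = s * s * (s⁻¹ * b) by group, cellW_mul_left P _ (P.sq_mem _ hs)]
  have hup : len P (cellW P (s * (s⁻¹ * b))) = len P (cellW P (s⁻¹ * b)) + 1 := by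
    rw [e1, mul_inv_cancel_left, h]
  obtain ⟨hx, hxH, hsq, -⟩ := T_simple_sq hd ρ hs
  refine ⟨fun i => b⁻¹ * (s * hx i * s⁻¹) * b, fun i => hd.conj_H' hb (hd.conj_H hsN (hxH i)), ?_⟩
  calc T ρ U s * T ρ U b = T ρ U s * T ρ U s * T ρ U (s⁻¹ * b) := by
        rw [mul_assoc, T_simple_up hd ρ hs hb' hup, mul_inv_cancel_left]
    _ = _ := by
        rw [hsq, add_mul, smul_mul_assoc, T_H_mul hd ρ (sq_mem_H hd hs), show s * s * (s⁻¹ * b) = s * b by group,
          Finset.sum_mul]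
        congr 1
        refine Finset.sum_congr rfl fun i _ => ?_
        rw [mul_assoc, T_H_mul hd ρ (hxH i), T_simple_up hd ρ hs (mul_mem (Subgroup.mem_inf.1 (hxH i)).2 hb') ?_,
          T_mul_H hd ρ (hd.conj_H' hb (hd.conj_H hsN (hxH i)))]
        · congr 1
          group
        · rw [cellW_mul_left P _ (Subgroup.mem_inf.1 (hxH i)).1,
            show s * (hx i * (s⁻¹ * b)) = (s * hx i * s⁻¹) * (s * (s⁻¹ * b)) by group,
            cellW_mul_left P _ (Subgroup.mem_inf.1 (hd.conj_H hsN (hxH i))).1, hup]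

end Cfsg.Agent.HeckeU
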