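import Cfsg.Agent.Lib.HeckeU.Data

/-!
# Relations of the Hecke operators

`T_H_mul`, `T_mul_H`, `T_mul_of_len`, and the quadratic relation `T_simple_sq`.
-/

set_option autoImplicit false

namespace Cfsg.Agent.HeckeU

open Cfsg.Agent.BN

variable {G : Type*} [Group G] [Finite G] {P : Cfsg.BNPair G} {U : Subgroup G} {p q : ℕ}
  (hd : Data P U p q) {n : ℕ} (ρ : Representation ℂ G (Fin n → ℂ)) [Fintype U]

include hd

omit [Finite G] [Fintype U] in
theorem len_H {h : G} (hh : h ∈ P.B ⊓ P.N) : len P (BN.wOf P (Subgroup.mem_inf.1 hh).2) = 0 := by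
  rw [(wOf_eq_one_iff P _).2 (Subgroup.mem_inf.1 hh).1]
  exact wlen_one

omit [Fintype U] in
theorem orb_H {h : G} (hh : h ∈ P.B ⊓ P.N) : orb U h = 1 := by
  rw [hd.orb_of_N (Subgroup.mem_inf.1 hh).2, len_H hd hh, pow_zero]

theorem T_H_mul {h : G} (hh : h ∈ P.B ⊓ P.N) (g : G) : T ρ U h * T ρ U g = T ρ U (h * g) := by
  rw [T, T, T, smul_mul_smul_comm, op_normalizer' ρ U fun u hu => hd.h_normalizes hh hu, orb_H hd hh,
    hd.orb_eq g, hd.orb_eq (h * g), cellW_mul_left P g (Subgroup.mem_inf.1 hh).1, Nat.cast_one, one_mul]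

theorem T_mul_H {h : G} (hh : h ∈ P.B ⊓ P.N) (g : G) : T ρ U g * T ρ U h = T ρ U (g * h) := by
  rw [T, T, T, smul_mul_smul_comm, op_normalizer ρ U fun u hu => hd.conj_U' (Subgroup.mem_inf.1 hh).1 hu,
    orb_H hd hh, hd.orb_eq g, hd.orb_eq (g * h), cellW_mul_right P g (Subgroup.mem_inf.1 hh).1, Nat.cast_one,
    mul_one]

omit [Fintype U] in
/-- The product of two double cosets with additive lengths is one double coset. -/
theorem mem_dc_of_len {a b : G} (ha : a ∈ P.N) (hb : b ∈ P.N)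
    (hlen : len P (BN.wOf P ha * BN.wOf P hb) = len P (BN.wOf P ha) + len P (BN.wOf P hb)) {u : G} (hu : u ∈ U) :
    a * u * b ∈ DoubleCoset.doubleCoset (a * b) (U : Set G) U := by
  classical
  rw [← mem_orbit_iff]
  have horb : orb U (a * b) = orb U a * orb U b := by
    rw [hd.orb_of_N (mul_mem ha hb), hd.orb_of_N ha, hd.orb_of_N hb, wOf_mul P ha hb, hlen, pow_add]
  let f : MulAction.orbit U (a : G ⧸ U) × MulAction.orbit U (b : G ⧸ U) → G ⧸ U :=
    fun z => (z.1.1.out : G) • z.2.1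
  have key : ∀ (v : G) (z : G ⧸ U) (_ : z ∈ MulAction.orbit U (a : G ⧸ U)), v ∈ U → ∀ u0 : U,
      (z.out : G) * u0 = v → ((v * b : G) : G ⧸ U) ∈ Set.range f := fun v z hz hv u0 e => by
    refine ⟨(⟨z, hz⟩, ⟨_, MulAction.mem_orbit _ u0⟩), ?_⟩
    show (z.out : G) • ((u0 : U) • (b : G ⧸ U)) = _
    show (((z.out : G) * ((u0 : G) * b) : G) : G ⧸ U) = _
    rw [← mul_assoc, e]
  have hrange : ∀ (v : G), (v : G ⧸ U) ∈ MulAction.orbit U (a : G ⧸ U) → ∀ u' ∈ U,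
      ((v * u' * b : G) : G ⧸ U) ∈ Set.range f := by
    intro v hv u' hu'
    obtain ⟨u0, hu0⟩ := QuotientGroup.mk_out_eq_mul U v
    refine ⟨(⟨_, hv⟩, ⟨_, MulAction.mem_orbit _ (u0⁻¹ * ⟨u', hu'⟩ : U)⟩), ?_⟩
    show (((v : G ⧸ U).out : G) • ((u0⁻¹ * ⟨u', hu'⟩ : U) • (b : G ⧸ U))) = _
    show ((((v : G ⧸ U).out : G) * (((u0 : G)⁻¹ * u') * b) : G) : G ⧸ U) = _
    rw [hu0]
    congr 1
    group
  have hsub : MulAction.orbit U ((a * b : G) : G ⧸ U) ⊆ Set.range f := by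
    rintro _ ⟨v, rfl⟩
    show (((v : G) * (a * b) : G) : G ⧸ U) ∈ _
    have h := hrange ((v : G) * a) ((mem_orbit_iff U).2 (DoubleCoset.mem_doubleCoset.2
      ⟨v, v.2, 1, one_mem _, by simp⟩)) 1 (one_mem _)
    simpa [mul_assoc] using h
  have hcard : (Set.range f).ncard ≤ (MulAction.orbit U ((a * b : G) : G ⧸ U)).ncard := by
    rw [← Nat.card_coe_set_eq, ← Nat.card_coe_set_eq]
    refine (Finite.card_range_le f).trans (le_of_eq ?_)
    rw [Nat.card_prod]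
    exact horb.symm
  rw [Set.eq_of_subset_of_ncard_le hsub hcard (Set.toFinite _)]
  exact hrange a (MulAction.mem_orbit_self _) u hu

theorem T_mul_of_len {a b : G} (ha : a ∈ P.N) (hb : b ∈ P.N)
    (hlen : len P (BN.wOf P ha * BN.wOf P hb) = len P (BN.wOf P ha) + len P (BN.wOf P hb)) :
    T ρ U a * T ρ U b = T ρ U (a * b) := by
  rw [T, T, T, smul_mul_smul_comm, op_mul_op, Finset.sum_congr rfl fun (u : U) _ =>
    op_congr ρ U (mem_dc_of_len hd ha hb hlen u.2), Finset.sum_const, Finset.card_univ, ← Nat.card_eq_fintype_card,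
    ← Nat.cast_smul_eq_nsmul ℂ, smul_smul, smul_smul]
  congr 1
  rw [hd.orb_of_N (mul_mem ha hb), hd.orb_of_N ha, hd.orb_of_N hb, wOf_mul P ha hb, hlen, pow_add, Nat.cast_mul]
  have : (Nat.card U : ℂ) ≠ 0 := Nat.cast_ne_zero.2 Nat.card_pos.ne'
  field_simp

omit [Fintype U] in
/-- For `u ∈ U` with `s u s ∉ U s s U` there is `h ∈ H` with `s u s ∈ U s h U`. -/
theorem exists_h {s : G} (hs : s ∈ P.S) {u : G} (hu : u ∈ U) (hbad : s⁻¹ * u * s ∉ U) :
    ∃ h ∈ P.B ⊓ P.N, s * u * s ∈ DoubleCoset.doubleCoset (s * h) (U : Set G) U := by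
  have h1 : (s : G) * u ∈ C P (BN.sigma P ⟨s, hs⟩) := mul_mem_C_right P (self_mem_C P (P.subset hs)) (hd.U_le hu)
  rcases mul_left_simple P ⟨s, hs⟩ h1 (self_mem_C P (P.subset hs)) with h2 | h2
  · rw [show BN.wOf P (P.subset hs) = BN.sigma P ⟨s, hs⟩ from wOf_S P ⟨s, hs⟩, sigma_sq, mem_C_one_iff] at h2
    refine absurd (hd.mem_U_of_conj hu ?_) hbad
    have h3 := mul_mem (inv_mem (P.sq_mem _ hs)) h2
    rwa [show (s * s)⁻¹ * (s * u * s) = s⁻¹ * u * s by group] at h3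
  · rw [C_wOf P (P.subset hs), DoubleCoset.mem_doubleCoset] at h2
    obtain ⟨b, hb, b', hb', e⟩ := h2
    obtain ⟨u1, hu1, h1', hh1, rfl⟩ := hd.decomp b hb
    obtain ⟨u2, hu2, h2', hh2, rfl⟩ := hd.decomp b' hb'
    refine ⟨s⁻¹ * h1' * s * h2', mul_mem (hd.conj_H' (P.subset hs) hh1) hh2, DoubleCoset.mem_doubleCoset.2
      ⟨u1, hu1, h2'⁻¹ * u2 * h2', hd.conj_U' (Subgroup.mem_inf.1 hh2).1 hu2, ?_⟩⟩
    rw [e]
    group

omit [Finite G] [Fintype U] in
theorem sq_mem_H {s : G} (hs : s ∈ P.S) : s * s ∈ P.B ⊓ P.N :=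
  Subgroup.mem_inf.2 ⟨P.sq_mem _ hs, mul_mem (P.subset hs) (P.subset hs)⟩

omit [Fintype U] in
theorem orb_simple {s : G} (hs : s ∈ P.S) : orb U s = q := by
  rw [hd.orb_of_N (P.subset hs), wOf_S P ⟨s, hs⟩, show len P (BN.sigma P ⟨s, hs⟩) = 1 from
    (hasExchange P).wlen_sigma _, pow_one]

/-- The quadratic relation. -/
theorem T_simple_sq {s : G} (hs : s ∈ P.S) :
    ∃ hx : Fin (q - 1) → G, (∀ i, hx i ∈ P.B ⊓ P.N) ∧
      T ρ U s * T ρ U s = (q : ℂ) • T ρ U (s * s) + ∑ i, T ρ U s * T ρ U (hx i) ∧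
      ∀ u ∈ U, ∀ h ∈ P.B ⊓ P.N, s * u * s ∈ DoubleCoset.doubleCoset (s * h) (U : Set G) U →
        ∃ i, T ρ U (s * h) = T ρ U (s * hx i) := by
  classical
  letI := Fintype.ofFinite (G ⧸ U)
  letI := Fintype.ofFinite (MulAction.orbit U (s : G ⧸ U))
  set O := MulAction.orbit U (s : G ⧸ U) with hO
  let z0 : O := ⟨(s : G ⧸ U), MulAction.mem_orbit_self _⟩
  haveI : Nonempty O := ⟨z0⟩
  have hrep : ∀ u : U, op ρ U (s * u * s) = op ρ U (s * ((u • (s : G ⧸ U)).out : G)) := by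
    intro u
    obtain ⟨v, hv⟩ := QuotientGroup.mk_out_eq_mul U ((u : G) * s)
    show _ = op ρ U (s * (((u : G) * s : G) : G ⧸ U).out)
    rw [hv, ← mul_assoc, ← mul_assoc, op_mul_right ρ U v.2]
  have hbad : ∀ z : {z : O // z ≠ z0}, ∃ h ∈ P.B ⊓ P.N,
      s * (z.1.1.out : G) ∈ DoubleCoset.doubleCoset (s * h) (U : Set G) U := by
    rintro ⟨⟨z, hz⟩, hne⟩
    obtain ⟨u, rfl⟩ := hz
    have hb : s⁻¹ * (u : G) * s ∉ U := fun h => hne <| by
      refine Subtype.ext ?_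
      show (((u : G) * s : G) : G ⧸ U) = (s : G ⧸ U)
      refine (QuotientGroup.eq.2 ?_).symm
      rwa [← mul_assoc]
    obtain ⟨h, hh, hm⟩ := exists_h hd hs u.2 hb
    refine ⟨h, hh, ?_⟩
    obtain ⟨v, hv⟩ := QuotientGroup.mk_out_eq_mul U ((u : G) * s)
    show s * ((((u : G) * s : G) : G ⧸ U).out) ∈ _
    rw [hv]
    obtain ⟨a, ha, b, hb', e⟩ := DoubleCoset.mem_doubleCoset.1 hm
    refine DoubleCoset.mem_doubleCoset.2 ⟨a, ha, b * v, mul_mem hb' v.2, ?_⟩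
    rw [← mul_assoc, ← mul_assoc, e, mul_assoc (a * (s * h))]
  choose hx hxH hxdc using hbad
  have hcard : Fintype.card {z : O // z ≠ z0} = q - 1 := by
    rw [Fintype.card_subtype_compl, Fintype.card_subtype_eq, ← Nat.card_eq_fintype_card]
    show orb U s - 1 = q - 1
    rw [orb_simple hd hs]
  let e := Fintype.equivFinOfCardEq hcard
  refine ⟨fun i => hx (e.symm i), fun i => hxH _, ?_, ?_⟩
  · have hTsh : ∀ z, T ρ U s * T ρ U (hx z) = (q : ℂ) • op ρ U (s * (z.1.1.out : G)) := by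
      intro z
      rw [T_mul_H hd ρ (hxH z), ← T_congr ρ U (hxdc z), T, orb_congr U (hxdc z),
        hd.orb_eq, cellW_mul_right P s (Subgroup.mem_inf.1 (hxH z)).1, ← hd.orb_eq, orb_simple hd hs]
    rw [Equiv.sum_comp e.symm (fun z => T ρ U s * T ρ U (hx z)), Finset.sum_congr rfl fun z _ => hTsh z,
      show (q : ℂ) • T ρ U (s * s) = (q : ℂ) • op ρ U (s * (z0.1.out : G)) by
        rw [T, orb_H hd (sq_mem_H hd hs), Nat.cast_one, one_smul]
        obtain ⟨v, hv⟩ := QuotientGroup.mk_out_eq_mul U s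
        show _ = (q : ℂ) • op ρ U (s * ((s : G ⧸ U).out))
        rw [hv, ← mul_assoc, op_mul_right ρ U v.2],
      ← Finset.smul_sum, ← smul_add, ← Fintype.sum_eq_add_sum_subtype_ne (fun z : O => op ρ U (s * (z.1.out : G))) z0,
      T, smul_mul_smul_comm, op_mul_op, Finset.sum_congr rfl fun u _ => hrep u, smul_smul]
    have hsum : ∑ u : U, op ρ U (s * ((u • (s : G ⧸ U)).out : G)) =
        ((Nat.card U / orb U s : ℕ) : ℂ) • ∑ z : O, op ρ U (s * (z.1.out : G)) := by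
      rw [← Finset.sum_fiberwise Finset.univ (fun u : U => (⟨u • (s : G ⧸ U), MulAction.mem_orbit _ u⟩ : O))
        fun u => op ρ U (s * ((u • (s : G ⧸ U)).out : G)), Finset.smul_sum]
      refine Finset.sum_congr rfl fun z _ => ?_
      rw [Finset.sum_congr rfl fun u hu => by rw [show u • (s : G ⧸ U) = z.1 from
        congrArg Subtype.val (Finset.mem_filter.1 hu).2], Finset.sum_const, ← Nat.cast_smul_eq_nsmul ℂ]
      congr 2
      obtain ⟨u0, hu0⟩ := z.2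
      have horb := MulAction.card_orbit_mul_card_stabilizer_eq_card_group U (s : G ⧸ U)
      rw [← Fintype.card_subtype]
      have hst : Fintype.card {u : U // (⟨u • (s : G ⧸ U), MulAction.mem_orbit _ u⟩ : O) = z} =
          Fintype.card (MulAction.stabilizer U (s : G ⧸ U)) := by
        refine Fintype.card_congr ((Equiv.mulLeft u0⁻¹).subtypeEquiv fun u => ?_)
        rw [MulAction.mem_stabilizer_iff, Equiv.coe_mulLeft, mul_smul, inv_smul_eq_iff, Subtype.ext_iff]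
        show u • (s : G ⧸ U) = z.1 ↔ _
        rw [← hu0]
      rw [hst, orb, Nat.card_eq_fintype_card, Nat.card_eq_fintype_card, ← horb,
        Nat.mul_div_cancel_left _ Fintype.card_pos]
    rw [hsum, smul_smul]
    congr 1
    rw [Nat.cast_div (orb_dvd U s) (Nat.cast_ne_zero.2 (orb_pos U s).ne'), orb_simple hd hs]
    have : (Nat.card U : ℂ) ≠ 0 := Nat.cast_ne_zero.2 Nat.card_pos.ne'
    have h2 : (q : ℂ) ≠ 0 := by rw [← orb_simple hd hs]; exact Nat.cast_ne_zero.2 (orb_pos U s).ne'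
    field_simp
  · intro u hu h hh hm
    have hne : (⟨(⟨u, hu⟩ : U) • (s : G ⧸ U), MulAction.mem_orbit _ _⟩ : O) ≠ z0 := by
      intro e'
      have h1 : (((u * s : G)) : G ⧸ U) = (s : G ⧸ U) := congrArg Subtype.val e'
      have h2 := QuotientGroup.eq.1 h1.symm
      have h3 : s * u * s ∈ DoubleCoset.doubleCoset (s * s) (U : Set G) U :=
        DoubleCoset.mem_doubleCoset.2 ⟨1, one_mem _, _, h2, by group⟩
      have h4 := hd.cellW_eq_of_mem (mul_mem (P.subset hs) (Subgroup.mem_inf.1 hh).2) hm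
      rw [hd.cellW_eq_of_mem (mul_mem (P.subset hs) (P.subset hs)) h3,
        (wOf_eq_one_iff P _).2 (P.sq_mem _ hs), wOf_mul P (P.subset hs) (Subgroup.mem_inf.1 hh).2,
        (wOf_eq_one_iff P _).2 (Subgroup.mem_inf.1 hh).1, mul_one, wOf_S P ⟨s, hs⟩] at h4
      exact sigma_ne_one P _ h4.symm
    refine ⟨e ⟨_, hne⟩, ?_⟩
    simp only [e.symm_apply_apply]
    rw [← T_congr ρ U (hxdc _), ← T_congr ρ U hm]
    obtain ⟨v, hv⟩ := QuotientGroup.mk_out_eq_mul U (u * s)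
    show T ρ U (s * u * s) = T ρ U (s * ((u * s : G) : G ⧸ U).out)
    rw [hv, ← mul_assoc, ← mul_assoc]
    refine (T_congr ρ U ?_).symm
    exact DoubleCoset.mem_doubleCoset.2 ⟨1, one_mem _, v, v.2, by simp⟩

end Cfsg.Agent.HeckeU
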