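import Cfsg.Agent.Lib.Char.Orth

/-!
# The operators `e g e` on the fixed vectors of a subgroup

For a complex representation `ρ` and a finite subgroup `U`, `W` is the space of `U`-fixed vectors,
`op g = π ρ(g) ι`. `orb g` is the number of left `U`-cosets in `U g U`, `T g = orb g • op g` the Hecke
operator. For irreducible `ρ`: the two Schur identities and their double coset forms.
-/

set_option autoImplicit false

namespace Cfsg.Agent.HeckeU

open LinearMap Module

variable {G : Type*} [Group G] {n : ℕ} (ρ : Representation ℂ G (Fin n → ℂ)) (U : Subgroup G)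

/-- The number of left cosets in `U g U`. -/
noncomputable def orb (g : G) : ℕ := Nat.card (MulAction.orbit U (g : G ⧸ U))

/-- Averaging over `U`. -/
noncomputable def avg [Fintype U] : (Fin n → ℂ) →ₗ[ℂ] (Fin n → ℂ) :=
  (Nat.card U : ℂ)⁻¹ • ∑ u : U, ρ u

variable [Fintype U]

theorem rho_avg {x : G} (hx : x ∈ U) : ρ x ∘ₗ avg ρ U = avg ρ U := by
  rw [avg, LinearMap.comp_smul, ← Module.End.mul_eq_comp, Finset.mul_sum]
  congr 1
  refine Fintype.sum_equiv (Equiv.mulLeft (⟨x, hx⟩ : U)) _ _ fun u => ?_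
  simp [← map_mul]

theorem avg_rho {x : G} (hx : x ∈ U) : avg ρ U ∘ₗ ρ x = avg ρ U := by
  rw [avg, LinearMap.smul_comp, ← Module.End.mul_eq_comp, Finset.sum_mul]
  congr 1
  refine Fintype.sum_equiv (Equiv.mulRight (⟨x, hx⟩ : U)) _ _ fun u => ?_
  simp [← map_mul]

theorem avg_idem : avg ρ U ∘ₗ avg ρ U = avg ρ U := by
  conv_lhs => arg 1; rw [avg]
  rw [LinearMap.smul_comp, ← Module.End.mul_eq_comp, Finset.sum_mul,
    Finset.sum_congr rfl fun (u : U) _ => show ρ (u : G) * avg ρ U = avg ρ U from rho_avg ρ U u.2,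
    Finset.sum_const, Finset.card_univ, ← Nat.card_eq_fintype_card, ← Nat.cast_smul_eq_nsmul ℂ, smul_smul,
    inv_mul_cancel₀ (Nat.cast_ne_zero.2 Nat.card_pos.ne'), one_smul]

/-- The fixed vectors as a submodule. -/
noncomputable abbrev fixedSub : Submodule ℂ (Fin n → ℂ) := LinearMap.range (avg ρ U)

/-- The space of fixed vectors. -/
def W : Type := ↥(fixedSub ρ U)

noncomputable instance : AddCommGroup (W ρ U) := inferInstanceAs (AddCommGroup ↥(fixedSub ρ U))
noncomputable instance : Module ℂ (W ρ U) := inferInstanceAs (Module ℂ ↥(fixedSub ρ U))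
noncomputable instance : FiniteDimensional ℂ (W ρ U) := inferInstanceAs (FiniteDimensional ℂ ↥(fixedSub ρ U))

/-- The inclusion of the fixed vectors. -/
noncomputable def incl : W ρ U →ₗ[ℂ] (Fin n → ℂ) := (fixedSub ρ U).subtype

/-- The projection onto the fixed vectors. -/
noncomputable def proj : (Fin n → ℂ) →ₗ[ℂ] W ρ U := (avg ρ U).rangeRestrict

theorem subtype_proj : incl ρ U ∘ₗ proj ρ U = avg ρ U := rfl

theorem proj_subtype : proj ρ U ∘ₗ incl ρ U = LinearMap.id := by
  refine LinearMap.ext ?_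
  rintro ⟨v, w, rfl⟩
  exact Subtype.ext (LinearMap.congr_fun (avg_idem ρ U) w)

/-- `π ρ(g) ι`. -/
noncomputable def op (g : G) : End ℂ (W ρ U) := proj ρ U ∘ₗ ρ g ∘ₗ incl ρ U

/-- The Hecke operator of `U g U`. -/
noncomputable def T (g : G) : End ℂ (W ρ U) := (orb U g : ℂ) • op ρ U g

theorem op_mul_left {x : G} (hx : x ∈ U) (g : G) : op ρ U (x * g) = op ρ U g := by
  have : proj ρ U ∘ₗ ρ x = proj ρ U := by
    refine LinearMap.ext fun v => Subtype.ext ?_
    exact LinearMap.congr_fun (avg_rho ρ U hx) v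
  rw [op, map_mul, Module.End.mul_eq_comp, ← LinearMap.comp_assoc, ← LinearMap.comp_assoc, this]
  rfl

theorem op_mul_right {x : G} (hx : x ∈ U) (g : G) : op ρ U (g * x) = op ρ U g := by
  have : ρ x ∘ₗ incl ρ U = incl ρ U := by
    refine LinearMap.ext ?_
    rintro ⟨v, w, rfl⟩
    exact LinearMap.congr_fun (rho_avg ρ U hx) w
  rw [op, map_mul, Module.End.mul_eq_comp, LinearMap.comp_assoc, this]
  rfl

theorem op_one : op ρ U 1 = 1 := by
  rw [op, map_one]
  exact proj_subtype ρ U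

theorem op_mul_op (g g' : G) :
    op ρ U g * op ρ U g' = (Nat.card U : ℂ)⁻¹ • ∑ u : U, op ρ U (g * u * g') := by
  have e : op ρ U g * op ρ U g' =
      proj ρ U ∘ₗ (ρ g ∘ₗ avg ρ U ∘ₗ ρ g') ∘ₗ incl ρ U := by
    simp only [op, Module.End.mul_eq_comp, ← subtype_proj, LinearMap.comp_assoc]
  rw [e, avg]
  refine LinearMap.ext fun v => ?_
  simp [op, LinearMap.sum_apply, Finset.smul_sum, map_mul]

theorem op_normalizer {g g' : G} (h : ∀ u ∈ U, g⁻¹ * u * g ∈ U) :
    op ρ U g' * op ρ U g = op ρ U (g' * g) := by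
  rw [op_mul_op, Finset.sum_congr rfl fun (u : U) _ => show op ρ U (g' * u * g) = op ρ U (g' * g) by
    rw [show g' * (u : G) * g = g' * g * (g⁻¹ * u * g) by group, op_mul_right ρ U (h _ u.2)],
    Finset.sum_const, Finset.card_univ, ← Nat.card_eq_fintype_card, ← Nat.cast_smul_eq_nsmul ℂ, smul_smul,
    inv_mul_cancel₀ (Nat.cast_ne_zero.2 Nat.card_pos.ne'), one_smul]

theorem op_normalizer' {g g' : G} (h : ∀ u ∈ U, g * u * g⁻¹ ∈ U) :
    op ρ U g * op ρ U g' = op ρ U (g * g') := by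
  rw [op_mul_op, Finset.sum_congr rfl fun (u : U) _ => show op ρ U (g * u * g') = op ρ U (g * g') by
    rw [show g * (u : G) * g' = (g * u * g⁻¹) * (g * g') by group, op_mul_left ρ U (h _ u.2)],
    Finset.sum_const, Finset.card_univ, ← Nat.card_eq_fintype_card, ← Nat.cast_smul_eq_nsmul ℂ, smul_smul,
    inv_mul_cancel₀ (Nat.cast_ne_zero.2 Nat.card_pos.ne'), one_smul]

/-- The trace of `op g` is the average of the character over `g U`. -/
theorem trace_op (g : G) :
    LinearMap.trace ℂ _ (op ρ U g) = (Nat.card U : ℂ)⁻¹ * ∑ u : U, ρ.character (g * u) := by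
  rw [op, LinearMap.trace_comp_comm', LinearMap.comp_assoc, subtype_proj, avg, LinearMap.comp_smul,
    ← Module.End.mul_eq_comp, Finset.mul_sum, map_smul, map_sum, smul_eq_mul]
  simp [Representation.character, map_mul]

theorem trace_op_one : LinearMap.trace ℂ _ (op ρ U 1) = (finrank ℂ (W ρ U) : ℂ) := by
  rw [op_one, LinearMap.trace_one]

theorem corner_sum {ι : Type*} (s : Finset ι) (f : ι → End ℂ (Fin n → ℂ)) :
    proj ρ U ∘ₗ (∑ i ∈ s, f i) ∘ₗ incl ρ U = ∑ i ∈ s, proj ρ U ∘ₗ f i ∘ₗ incl ρ U := by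
  ext v; simp

section schur

variable [Fintype G] [ρ.IsIrreducible]

omit [Fintype U] in
theorem deg_ne_zero {G : Type*} [Group G] {n : ℕ} (ρ : Representation ℂ G (Fin n → ℂ)) [ρ.IsIrreducible] :
    (n : ℂ) ≠ 0 := by
  intro h
  obtain rfl : n = 0 := by exact_mod_cast h
  obtain ⟨x, y, hxy⟩ := (inferInstance : IsSimpleOrder (Subrepresentation ρ)).exists_pair_ne
  refine hxy (SetLike.ext fun v => ?_)
  rw [Subsingleton.elim v 0]
  exact iff_of_true x.toSubmodule.zero_mem y.toSubmodule.zero_mem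

omit [Fintype U] in
theorem schur_conj (a : End ℂ (Fin n → ℂ)) :
    ∑ g : G, ρ g * a * ρ g⁻¹ = ((Nat.card G : ℂ) / n * LinearMap.trace ℂ _ a) • 1 := by
  have hcomm : ∀ x : G, (∑ g : G, ρ g * a * ρ g⁻¹) ∘ₗ ρ x = ρ x ∘ₗ ∑ g : G, ρ g * a * ρ g⁻¹ := by
    intro x
    rw [← Module.End.mul_eq_comp, ← Module.End.mul_eq_comp, Finset.sum_mul, Finset.mul_sum]
    refine Fintype.sum_equiv (Equiv.mulLeft x⁻¹) _ _ fun g => ?_
    simp only [Equiv.coe_mulLeft, ← mul_assoc, ← map_mul, mul_inv_cancel, one_mul]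
    simp only [mul_assoc, ← map_mul, mul_inv_rev, inv_inv]
  obtain ⟨c, hc⟩ :=
    (Representation.IsIrreducible.algebraMap_intertwiningMap_bijective_of_isAlgClosed
      (ρ := ρ)).2 ⟨_, hcomm⟩
  have hc' : ∑ g : G, ρ g * a * ρ g⁻¹ = c • 1 := by
    have := congrArg Representation.IntertwiningMap.toLinearMap hc
    refine this.symm.trans ?_
    ext v
    simp [Algebra.algebraMap_eq_smul_one]
  have ht := congrArg (LinearMap.trace ℂ (Fin n → ℂ)) hc'
  rw [map_sum, Finset.sum_congr rfl fun g _ => show LinearMap.trace ℂ _ (ρ g * a * ρ g⁻¹)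
      = LinearMap.trace ℂ _ a by rw [LinearMap.trace_mul_cycle, ← map_mul, inv_mul_cancel, map_one, one_mul],
    map_smul, LinearMap.trace_one, Finset.sum_const, Finset.card_univ, nsmul_eq_mul, smul_eq_mul,
    Module.finrank_fin_fun, ← Nat.card_eq_fintype_card] at ht
  have hn : (n : ℂ) ≠ 0 := deg_ne_zero ρ
  rw [hc']
  congr 1
  field_simp
  linear_combination -ht

omit [Fintype U] in
theorem schur_trace (a : End ℂ (Fin n → ℂ)) :
    ∑ g : G, LinearMap.trace ℂ _ (ρ g⁻¹ * a) • ρ g = ((Nat.card G : ℂ) / n) • a := by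
  have key : ∀ (f : (Fin n → ℂ) →ₗ[ℂ] ℂ) (w : Fin n → ℂ),
      ∑ g : G, LinearMap.trace ℂ _ (ρ g⁻¹ * f.smulRight w) • ρ g = ((Nat.card G : ℂ) / n) • f.smulRight w := by
    intro f w
    refine LinearMap.ext fun v => ?_
    have h := LinearMap.congr_fun (schur_conj ρ (f.smulRight v)) w
    have e : ∀ (u : Fin n → ℂ), LinearMap.trace ℂ _ (f.smulRight u) = f u :=
      fun u => LinearMap.trace_smulRight f u
    simp only [LinearMap.sum_apply, Module.End.mul_apply, LinearMap.smulRight_apply, map_smul,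
      LinearMap.smul_apply, Module.End.one_apply, e] at h
    rw [LinearMap.sum_apply, LinearMap.smul_apply, LinearMap.smulRight_apply]
    simp only [LinearMap.smul_apply]
    rw [smul_smul, ← h]
    refine Finset.sum_congr rfl fun g _ => ?_
    congr 1
    rw [show ρ g⁻¹ * f.smulRight w = f.smulRight (ρ g⁻¹ w) by ext; simp, e]
  have ha : a = ∑ i, ((Pi.basisFun ℂ (Fin n)).coord i).smulRight (a (Pi.single i 1)) := by
    refine (Pi.basisFun ℂ (Fin n)).ext fun j => ?_
    simp [LinearMap.sum_apply, Pi.single_apply, ite_smul]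
  rw [ha]
  simp only [Finset.mul_sum, map_sum, Finset.sum_smul, Finset.smul_sum]
  rw [Finset.sum_comm]
  exact Finset.sum_congr rfl fun i _ => key _ _

theorem schur_trace_op (b : End ℂ (W ρ U)) :
    ∑ g : G, LinearMap.trace ℂ _ (op ρ U g⁻¹ * b) • op ρ U g = ((Nat.card G : ℂ) / n) • b := by
  have h := schur_trace ρ (incl ρ U ∘ₗ b ∘ₗ proj ρ U)
  have h' := congrArg (fun a => proj ρ U ∘ₗ a ∘ₗ incl ρ U) h
  simp only [LinearMap.comp_smul, LinearMap.smul_comp] at h'
  rw [show proj ρ U ∘ₗ (incl ρ U ∘ₗ b ∘ₗ proj ρ U) ∘ₗ incl ρ U = b by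
    rw [LinearMap.comp_assoc, LinearMap.comp_assoc, proj_subtype, ← LinearMap.comp_assoc,
      proj_subtype, LinearMap.id_comp, LinearMap.comp_id]] at h'
  rw [← h', corner_sum]
  refine Finset.sum_congr rfl fun g _ => ?_
  rw [LinearMap.smul_comp, LinearMap.comp_smul]
  congr 1
  rw [Module.End.mul_eq_comp, Module.End.mul_eq_comp, op, LinearMap.comp_assoc, LinearMap.comp_assoc,
    LinearMap.trace_comp_comm' (ρ g⁻¹ ∘ₗ incl ρ U ∘ₗ b) (proj ρ U)]
  simp [LinearMap.comp_assoc]

theorem schur_conj_op (b : End ℂ (W ρ U)) :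
    ∑ g : G, op ρ U g * b * op ρ U g⁻¹ = ((Nat.card G : ℂ) / n * LinearMap.trace ℂ _ b) • 1 := by
  have h := schur_conj ρ (incl ρ U ∘ₗ b ∘ₗ proj ρ U)
  have h' := congrArg (fun a => proj ρ U ∘ₗ a ∘ₗ incl ρ U) h
  simp only [LinearMap.comp_smul, LinearMap.smul_comp] at h'
  rw [show LinearMap.trace ℂ _ (incl ρ U ∘ₗ b ∘ₗ proj ρ U) = LinearMap.trace ℂ _ b by
      rw [LinearMap.trace_comp_comm', LinearMap.comp_assoc, proj_subtype, LinearMap.comp_id],
    show proj ρ U ∘ₗ (1 : End ℂ (Fin n → ℂ)) ∘ₗ incl ρ U = 1 from proj_subtype ρ U] at h'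
  rw [← h', corner_sum]
  refine Finset.sum_congr rfl fun g _ => ?_
  simp [op, Module.End.mul_eq_comp, LinearMap.comp_assoc]

end schur

section cosets

omit [Fintype U] in
theorem mem_orbit_iff {g x : G} :
    (x : G ⧸ U) ∈ MulAction.orbit U (g : G ⧸ U) ↔ x ∈ DoubleCoset.doubleCoset g (U : Set G) U := by
  rw [DoubleCoset.mem_doubleCoset, MulAction.mem_orbit_iff]
  constructor
  · rintro ⟨u, hu⟩
    change ((↑(↑u * g : G)) : G ⧸ U) = x at hu
    rw [QuotientGroup.eq] at hu
    exact ⟨u, u.2, _, hu, by group⟩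
  · rintro ⟨u, hu, v, hv, rfl⟩
    refine ⟨⟨u, hu⟩, ?_⟩
    change ((↑(u * g : G)) : G ⧸ U) = _
    rw [QuotientGroup.eq]
    simpa [mul_assoc] using hv

omit [Fintype U] in
theorem card_doubleCoset [Finite G] (g : G) :
    Nat.card (DoubleCoset.doubleCoset g (U : Set G) U) = Nat.card U * orb U g := by
  rw [orb, ← Nat.card_prod]
  refine Nat.card_congr (Equiv.trans (Equiv.setCongr ?_)
    (QuotientGroup.preimageMkEquivSubgroupProdSet U (MulAction.orbit U (g : G ⧸ U))))
  ext x
  exact (mem_orbit_iff U).symm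

omit [Fintype U] in
theorem orb_dvd [Finite G] (g : G) : orb U g ∣ Nat.card U := by
  classical
  have := Fintype.ofFinite U
  have := Fintype.ofFinite (MulAction.orbit U (g : G ⧸ U))
  rw [orb, ← MulAction.card_orbit_mul_card_stabilizer_eq_card_group U (g : G ⧸ U) |>.trans
    (Nat.card_eq_fintype_card).symm, Nat.card_eq_fintype_card]
  exact dvd_mul_right _ _

omit [Fintype U] in
theorem orb_pos [Finite G] (g : G) : 0 < orb U g := by
  haveI : Nonempty (MulAction.orbit U (g : G ⧸ U)) := ⟨⟨_, MulAction.mem_orbit_self _⟩⟩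
  exact Nat.card_pos

omit [Fintype U] in
theorem orb_congr {g g' : G} (h : g' ∈ DoubleCoset.doubleCoset g (U : Set G) U) : orb U g' = orb U g := by
  rw [orb, orb, MulAction.orbit_eq_iff.2 ((mem_orbit_iff U).2 h)]

theorem op_congr {g g' : G} (h : g' ∈ DoubleCoset.doubleCoset g (U : Set G) U) : op ρ U g' = op ρ U g := by
  obtain ⟨u, hu, v, hv, rfl⟩ := DoubleCoset.mem_doubleCoset.1 h
  rw [op_mul_right ρ U hv, op_mul_left ρ U hu]

theorem T_congr {g g' : G} (h : g' ∈ DoubleCoset.doubleCoset g (U : Set G) U) : T ρ U g' = T ρ U g := by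
  rw [T, T, orb_congr U h, op_congr ρ U h]

omit [Fintype U] in
/-- Sums of functions constant on double cosets. -/
theorem sum_doubleCosets [Fintype G] [Fintype (DoubleCoset.Quotient (U : Set G) U)] {A : Type*} [AddCommMonoid A]
    (f : G → A) (hf : ∀ g : G, ∀ x ∈ DoubleCoset.doubleCoset g (U : Set G) U, f x = f g) :
    ∑ g, f g = ∑ D : DoubleCoset.Quotient (U : Set G) U, (Nat.card U * orb U D.out) • f D.out := by
  classical
  rw [← Finset.sum_fiberwise Finset.univ (fun g => DoubleCoset.mk U U g) f]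
  refine Finset.sum_congr rfl fun D _ => ?_
  have hD : ∀ x : G, DoubleCoset.mk U U x = D ↔ x ∈ DoubleCoset.doubleCoset D.out (U : Set G) U := by
    intro x
    conv_lhs => rw [eq_comm, ← DoubleCoset.out_eq' U U D]
    rw [DoubleCoset.eq, DoubleCoset.mem_doubleCoset]
    rfl
  rw [Finset.sum_congr rfl fun x hx => hf D.out x ((hD x).1 (Finset.mem_filter.1 hx).2), Finset.sum_const,
    ← card_doubleCoset, Nat.card_eq_fintype_card, ← Set.toFinset_card]
  congr 2
  ext x
  simp [hD]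

end cosets

section doubleCosetForms

variable [Fintype G] [ρ.IsIrreducible] [Fintype (DoubleCoset.Quotient (U : Set G) U)]

omit [ρ.IsIrreducible] [Fintype (DoubleCoset.Quotient (U : Set G) U)] in
theorem orb_inv (g : G) : orb U g⁻¹ = orb U g := by
  have h : Nat.card (DoubleCoset.doubleCoset g⁻¹ (U : Set G) U) = Nat.card (DoubleCoset.doubleCoset g (U : Set G) U) := by
    refine Nat.card_congr ((Equiv.inv G).subtypeEquiv fun x => ?_)
    simp only [Equiv.inv_apply, DoubleCoset.mem_doubleCoset]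
    constructor
    · rintro ⟨u, hu, v, hv, rfl⟩; exact ⟨v⁻¹, inv_mem hv, u⁻¹, inv_mem hu, by group⟩
    · rintro ⟨u, hu, v, hv, e⟩; exact ⟨v⁻¹, inv_mem hv, u⁻¹, inv_mem hu, by rw [← inv_inv x, e]; group⟩
  rw [card_doubleCoset, card_doubleCoset] at h
  exact Nat.eq_of_mul_eq_mul_left Nat.card_pos h

omit [ρ.IsIrreducible] [Fintype (DoubleCoset.Quotient (U : Set G) U)] [Fintype G] in
theorem inv_mem_dc {g x : G} (h : x ∈ DoubleCoset.doubleCoset g (U : Set G) U) :
    x⁻¹ ∈ DoubleCoset.doubleCoset g⁻¹ (U : Set G) U := by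
  obtain ⟨u, hu, v, hv, rfl⟩ := DoubleCoset.mem_doubleCoset.1 h
  exact DoubleCoset.mem_doubleCoset.2 ⟨v⁻¹, inv_mem hv, u⁻¹, inv_mem hu, by group⟩

/-- The Casimir coefficient. -/
noncomputable def gam (ρ : Representation ℂ G (Fin n → ℂ)) (g : G) : ℂ :=
  (n : ℂ) * (Nat.card U : ℂ) / ((Nat.card G : ℂ) * (orb U g : ℂ))

theorem casimir_trace (b : End ℂ (W ρ U)) :
    ∑ D : DoubleCoset.Quotient (U : Set G) U,
      (gam U ρ D.out * LinearMap.trace ℂ _ (T ρ U D.out⁻¹ * b)) • T ρ U D.out = b := by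
  have h := schur_trace_op ρ U b
  rw [sum_doubleCosets U _ fun g x hx => by rw [op_congr ρ U hx, op_congr ρ U (inv_mem_dc U hx)]] at h
  have hG : (Nat.card G : ℂ) ≠ 0 := Nat.cast_ne_zero.2 Nat.card_pos.ne'
  have hn : (n : ℂ) ≠ 0 := deg_ne_zero ρ
  calc _ = ((n : ℂ) / Nat.card G) • ∑ D : DoubleCoset.Quotient (U : Set G) U,
      (Nat.card U * orb U D.out) • (LinearMap.trace ℂ _ (op ρ U D.out⁻¹ * b) • op ρ U D.out) := by
        rw [Finset.smul_sum]
        refine Finset.sum_congr rfl fun D _ => ?_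
        rw [T, T, orb_inv, smul_mul_assoc, map_smul, smul_eq_mul, smul_smul, ← Nat.cast_smul_eq_nsmul ℂ,
          smul_smul, smul_smul, gam]
        congr 1
        have := (orb_pos U D.out).ne'
        push_cast
        field_simp
    _ = b := by
        rw [h, smul_smul, div_mul_div_cancel₀ hG, div_self hn, one_smul]

theorem casimir_conj (b : End ℂ (W ρ U)) :
    ∑ D : DoubleCoset.Quotient (U : Set G) U,
      gam U ρ D.out • (T ρ U D.out * b * T ρ U D.out⁻¹) = LinearMap.trace ℂ _ b • 1 := by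
  have h := schur_conj_op ρ U b
  rw [sum_doubleCosets U _ fun g x hx => by rw [op_congr ρ U hx, op_congr ρ U (inv_mem_dc U hx)]] at h
  have hG : (Nat.card G : ℂ) ≠ 0 := Nat.cast_ne_zero.2 Nat.card_pos.ne'
  calc _ = ((n : ℂ) / Nat.card G) • ∑ D : DoubleCoset.Quotient (U : Set G) U,
      (Nat.card U * orb U D.out) • (op ρ U D.out * b * op ρ U D.out⁻¹) := by
        rw [Finset.smul_sum]
        refine Finset.sum_congr rfl fun D _ => ?_
        rw [T, T, orb_inv, smul_mul_assoc, smul_mul_assoc, mul_smul_comm, smul_smul, smul_smul,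
          ← Nat.cast_smul_eq_nsmul ℂ, smul_smul, gam]
        congr 1
        have := (orb_pos U D.out).ne'
        push_cast
        field_simp
    _ = _ := by
        rw [h, smul_smul]
        congr 1
        have := deg_ne_zero ρ
        field_simp

end doubleCosetForms

end Cfsg.Agent.HeckeU
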