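import Cfsg.Agent.Lib.HeckeU.Line
import Cfsg.Agent.Lib.Char.Eigen

/-!
# Uniqueness of the character of defect zero

If `|U|` divides the degree, every Hecke operator acts on the line of fixed vectors by the sign of the
Weyl group (`scalar_eq`); so the character is determined (`eq_of_defect_zero`).
-/

set_option autoImplicit false

namespace Cfsg.Agent.HeckeU

open Cfsg Cfsg.Agent.BN Cfsg.Agent.Blocks LinearMap Module
open scoped ComplexConjugate

variable {G : Type*} [Group G] [Fintype G] {P : Cfsg.BNPair G} {U : Subgroup G} {p q : ℕ}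
  (hd : Data P U p q) {n : ℕ} (ρ : Representation ℂ G (Fin n → ℂ)) [Fintype U]

/-- The hypothesis saying that the torus is generated by the elements met in the rank-one relations and
their conjugates. -/
def GenTorus (P : Cfsg.BNPair G) (U : Subgroup G) : Prop :=
  ∀ lam : G → ℂ, (∀ a ∈ P.B ⊓ P.N, ∀ b ∈ P.B ⊓ P.N, lam (a * b) = lam a * lam b) → lam 1 = 1 →
    (∀ m ∈ P.N, ∀ h ∈ P.B ⊓ P.N, lam (m * h * m⁻¹) = lam h) →
    (∀ s ∈ P.S, ∃ z, ∀ u ∈ U, ∀ h ∈ P.B ⊓ P.N,
      s * u * s ∈ DoubleCoset.doubleCoset (s * h) (U : Set G) U → lam h = z) →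
    ∀ h ∈ P.B ⊓ P.N, lam h = 1

/-- The scalar of a Hecke operator. -/
noncomputable def scal (U : Subgroup G) [Fintype U] (g : G) : ℂ := LinearMap.trace ℂ _ (T ρ U g)

theorem scal_inv (g : G) : scal ρ U g⁻¹ = conj (scal ρ U g) := by
  have hc := Char.isCharacter_character ρ
  simp only [scal, T, map_smul, smul_eq_mul, trace_op, orb_inv, map_mul, map_inv₀, map_natCast, map_sum]
  congr 2
  refine Fintype.sum_equiv (Equiv.inv U) _ _ fun u => ?_
  rw [← Char.IsCharacter.apply_inv hc, Equiv.inv_apply, Subgroup.coe_inv, mul_inv_rev, inv_inv]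
  exact Representation.char_mul_comm ρ _ _

include hd

theorem scalar_eq [ρ.IsIrreducible] (hdeg : Nat.card U ∣ n) (hbig : Nat.card U = q ^ len P (w0 P))
    (hgen : GenTorus P U) (g : G) : scal ρ U g = (-1 : ℂ) ^ len P (cellW P g) := by
  classical
  haveI : Finite (DoubleCoset.Quotient (U : Set G) U) := Quotient.finite _
  letI := Fintype.ofFinite (DoubleCoset.Quotient (U : Set G) U)
  have hW := finrank_W_eq_one hd ρ hdeg
  set c := scal ρ U with hc
  have hone : LinearMap.trace ℂ (W ρ U) 1 = 1 := by rw [LinearMap.trace_one, hW, Nat.cast_one]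
  have hsmul : ∀ g, T ρ U g = c g • (1 : End ℂ (W ρ U)) := by
    intro g
    have hne : (1 : End ℂ (W ρ U)) ≠ 0 := fun h => by simp [h] at hone
    have hE : finrank ℂ (End ℂ (W ρ U)) = 1 := by rw [Module.finrank_linearMap, hW]
    obtain ⟨z, hz⟩ := exists_smul_eq_of_finrank_eq_one hE hne (T ρ U g)
    have : c g = z := by
      show LinearMap.trace ℂ _ (T ρ U g) = z
      rw [← hz, map_smul, hone, smul_eq_mul, mul_one]
    rw [this, hz]
  have hmul : ∀ {a b x : G}, T ρ U a * T ρ U b = T ρ U x → c a * c b = c x := by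
    intro a b x h
    rw [hsmul a, hsmul b, smul_mul_smul_comm, one_mul] at h
    have := congrArg (LinearMap.trace ℂ (W ρ U)) h
    rwa [map_smul, hone, smul_eq_mul, mul_one] at this
  have h1 : c 1 = 1 := by
    show LinearMap.trace ℂ _ (T ρ U 1) = 1
    rw [T_one hd ρ, hone]
  have hHm : ∀ a ∈ P.B ⊓ P.N, ∀ b, c a * c b = c (a * b) := fun a ha b => hmul (T_H_mul hd ρ ha b)
  have hHn : ∀ h ∈ P.B ⊓ P.N, ‖c h‖ = 1 := by
    intro h hh
    have hp : ∀ k, c h ^ k = c (h ^ k) := fun k => by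
      induction k with
      | zero => rw [pow_zero, pow_zero, h1]
      | succ k ih => rw [pow_succ', ih, hHm h hh, ← pow_succ']
    refine Complex.norm_eq_one_of_pow_eq_one ?_ (orderOf_pos h).ne'
    rw [hp, pow_orderOf_eq_one, h1]
  -- the rank-one equation
  have hsimple : ∀ s ∈ P.S, ∃ hx : Fin (q - 1) → G, (∀ i, hx i ∈ P.B ⊓ P.N) ∧
      ((‖c s‖ ^ 2 : ℝ) : ℂ) = q + ∑ i, c ((s * s)⁻¹) * c s * c (hx i) ∧
      ∀ u ∈ U, ∀ h ∈ P.B ⊓ P.N, s * u * s ∈ DoubleCoset.doubleCoset (s * h) (U : Set G) U →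
        ∃ i, c s * c h = c s * c (hx i) := by
    intro s hs
    obtain ⟨hx, hxH, hsq, hbad⟩ := T_simple_sq hd ρ hs
    refine ⟨hx, hxH, ?_, fun u hu h hh hm => ?_⟩
    · have hss := sq_mem_H hd hs
      have e1 : c s * c s = q * c (s * s) + ∑ i, c s * c (hx i) := by
        have := congrArg (LinearMap.trace ℂ (W ρ U)) hsq
        simp only [hsmul, map_add, map_smul, map_sum, smul_mul_smul_comm, one_mul, hone, smul_eq_mul,
          mul_one] at this
        exact this
      have e2 : c (s * s) * c (s * s)⁻¹ = 1 := by rw [hHm _ hss, mul_inv_cancel, h1]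
      have e3 : conj (c s) = c s * c (s * s)⁻¹ := by
        rw [hc, ← scal_inv, ← hc, hmul (T_mul_H hd ρ (inv_mem hss) s)]
        congr 1
        group
      rw [Complex.ofReal_pow, ← Complex.mul_conj', e3, ← mul_assoc, e1, add_mul, mul_assoc (q : ℂ), e2,
        mul_one, Finset.sum_mul]
      congr 1
      exact Finset.sum_congr rfl fun i _ => by ring
    · obtain ⟨i, hi⟩ := hbad u hu h hh hm
      refine ⟨i, ?_⟩
      rw [hmul (T_mul_H hd ρ hh s), hmul (T_mul_H hd ρ (hxH i) s)]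
      show LinearMap.trace ℂ _ (T ρ U (s * h)) = LinearMap.trace ℂ _ (T ρ U (s * hx i))
      rw [hi]
  have hvnorm : ∀ s ∈ P.S, ∀ h ∈ P.B ⊓ P.N, ‖c ((s * s)⁻¹) * c s * c h‖ = ‖c s‖ := by
    intro s hs h hh
    rw [norm_mul, norm_mul, hHn _ (inv_mem (sq_mem_H hd hs)), hHn h hh, one_mul, mul_one]
  have hq1 : ∀ s ∈ P.S, (1 : ℝ) ≤ (q : ℝ) := fun s hs => by
    exact_mod_cast (hd.q_pos ⟨s, hs⟩ : 0 < q)
  have hge1 : ∀ s ∈ P.S, 1 ≤ ‖c s‖ := by
    intro s hs
    obtain ⟨hx, hxH, e, -⟩ := hsimple s hs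
    have e' := congrArg Complex.re e
    rw [Complex.ofReal_re, Complex.add_re, Complex.natCast_re, Complex.re_sum] at e'
    have hlow : -(((q : ℝ) - 1) * ‖c s‖) ≤ ∑ i, (c ((s * s)⁻¹) * c s * c (hx i)).re := by
      have := Finset.sum_le_sum (s := (Finset.univ : Finset (Fin (q - 1)))) (f := fun _ => -‖c s‖)
        (g := fun i => (c ((s * s)⁻¹) * c s * c (hx i)).re) fun i _ => by
          rw [← hvnorm s hs _ (hxH i)]
          exact neg_le_of_abs_le (Complex.abs_re_le_norm _)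
      rw [Finset.sum_const, Finset.card_univ, Fintype.card_fin, nsmul_eq_mul,
        Nat.cast_sub (hd.q_pos ⟨s, hs⟩), Nat.cast_one, mul_neg] at this
      exact this
    nlinarith [hq1 s hs, norm_nonneg (c s)]
  have hall : ∀ g, 1 ≤ ‖c g‖ := by
    intro g
    obtain ⟨b, hb, hg⟩ := hd.exists_rep g
    rw [hc, scal, T_congr ρ U hg, ← scal, ← hc]
    induction hk : len P (cellW P b) generalizing b g with
    | zero =>
      rw [hHn b (Subgroup.mem_inf.2 ⟨(mem_C_one_iff P).1 (by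
        rw [← wlen_eq_zero (sigma_sq P) (closure_sigma P) hk]; exact mem_cellW P b), hb⟩)]
    | succ k ih =>
      obtain ⟨s, hs, b', hb', hk', -, e⟩ := exists_split hd ρ hb hk
      rw [← hmul e.symm, norm_mul]
      exact one_le_mul_of_one_le_of_one_le (hge1 s hs)
        (ih b' b' hb' (DoubleCoset.mem_doubleCoset.2 ⟨1, one_mem _, 1, one_mem _, by simp⟩) hk')
  have hnU : (n : ℂ) = Nat.card U := by rw [finrank_W hd ρ hdeg, hW, Nat.cast_one, mul_one]
  have hnorm : ∀ g, ‖c g‖ = 1 := by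
    have hsum : ∑ g : G, ‖c g‖ ^ 2 / (orb U g : ℝ) ^ 2 = (Nat.card G : ℝ) / Nat.card U := by
      have h := congrArg (LinearMap.trace ℂ (W ρ U)) (schur_trace_op ρ U (1 : End ℂ (W ρ U)))
      simp only [map_sum, map_smul, mul_one, hone, smul_eq_mul, hnU] at h
      have ht : ∀ g, LinearMap.trace ℂ (W ρ U) (op ρ U g) = c g / (orb U g : ℂ) := by
        intro g
        have h0 : (orb U g : ℂ) ≠ 0 := Nat.cast_ne_zero.2 (orb_pos U g).ne'
        show _ = LinearMap.trace ℂ _ (T ρ U g) / _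
        rw [T, map_smul, smul_eq_mul, mul_div_cancel_left₀ _ h0]
      rw [← Complex.ofReal_inj]
      push_cast
      rw [← h]
      refine Finset.sum_congr rfl fun g _ => ?_
      rw [ht, ht, hc, scal_inv, orb_inv, ← Complex.mul_conj']
      ring
    have hle : ∀ g ∈ (Finset.univ : Finset G), ((orb U g : ℝ) ^ 2)⁻¹ ≤ ‖c g‖ ^ 2 / (orb U g : ℝ) ^ 2 := fun g _ => by
      rw [inv_eq_one_div]
      gcongr
      exact one_le_pow₀ (hall g)
    intro g
    have h := (Finset.sum_eq_sum_iff_of_le hle).1 (by rw [hsum, hd.sum_orb hbig]) g (Finset.mem_univ _)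
    have h0 : (0 : ℝ) < (orb U g : ℝ) ^ 2 := pow_pos (Nat.cast_pos.2 (orb_pos U g)) 2
    rw [eq_div_iff h0.ne', inv_mul_cancel₀ h0.ne'] at h
    nlinarith [norm_nonneg (c g)]
  have hne : ∀ g, c g ≠ 0 := fun g h => by simpa [h] using hnorm g
  have hv : ∀ s ∈ P.S, ∃ hx : Fin (q - 1) → G, (∀ i, hx i ∈ P.B ⊓ P.N) ∧
      (∀ i, c ((s * s)⁻¹) * c s * c (hx i) = -1) ∧
      ∀ u ∈ U, ∀ h ∈ P.B ⊓ P.N, s * u * s ∈ DoubleCoset.doubleCoset (s * h) (U : Set G) U →
        ∃ i, c h = c (hx i) := by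
    intro s hs
    obtain ⟨hx, hxH, e, hb⟩ := hsimple s hs
    refine ⟨hx, hxH, ?_, fun u hu h hh hm => (hb u hu h hh hm).imp fun i hi => mul_left_cancel₀ (hne s) hi⟩
    have e' := congrArg Complex.re e
    rw [Complex.ofReal_re, Complex.add_re, Complex.natCast_re, Complex.re_sum, hnorm s, one_pow] at e'
    have hle : ∀ i ∈ (Finset.univ : Finset (Fin (q - 1))), (-1 : ℝ) ≤ (c ((s * s)⁻¹) * c s * c (hx i)).re := by
      intro i _
      have := Complex.abs_re_le_norm (c ((s * s)⁻¹) * c s * c (hx i))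
      rw [hvnorm s hs _ (hxH i), hnorm s] at this
      exact neg_le_of_abs_le this
    have heq := (Finset.sum_eq_sum_iff_of_le hle).1 (by
      rw [Finset.sum_const, Finset.card_univ, Fintype.card_fin, nsmul_eq_mul,
        Nat.cast_sub (hd.q_pos ⟨s, hs⟩), Nat.cast_one]
      linarith)
    intro i
    have hre := (heq i (Finset.mem_univ _)).symm
    have hn := Complex.normSq_eq_norm_sq (c ((s * s)⁻¹) * c s * c (hx i))
    rw [hvnorm s hs _ (hxH i), hnorm s, Complex.normSq_apply, hre] at hn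
    refine Complex.ext (by simpa using hre) ?_
    simp only [Complex.neg_im, Complex.one_im, neg_zero]
    exact mul_self_eq_zero.1 (by linarith)
  have hH : ∀ h ∈ P.B ⊓ P.N, c h = 1 := by
    refine hgen c (fun a ha b _ => (hHm a ha b).symm) h1 (fun m hm h hh => ?_) (fun s hs => ?_)
    · have e1 := hmul (T_mul_H hd ρ hh m)
      have e2 := hHm _ (hd.conj_H hm hh) m
      rw [inv_mul_cancel_right, ← e1, mul_comm (c m)] at e2
      exact mul_right_cancel₀ (hne m) e2
    · obtain ⟨hx, -, hv, hb⟩ := hv s hs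
      refine ⟨-(c ((s * s)⁻¹) * c s)⁻¹, fun u hu h hh hm => ?_⟩
      obtain ⟨i, hi⟩ := hb u hu h hh hm
      rw [hi]
      have h0 : c ((s * s)⁻¹) * c s ≠ 0 := mul_ne_zero (hne _) (hne _)
      refine mul_left_cancel₀ h0 ?_
      rw [hv i, mul_neg, mul_inv_cancel₀ h0]
  have hs1 : ∀ s ∈ P.S, c s = -1 := by
    intro s hs
    obtain ⟨hx, hxH, hv, -⟩ := hv s hs
    have h2 : 2 ≤ q := le_trans hd.prime.two_le (Nat.le_of_dvd (hd.q_pos ⟨s, hs⟩) hd.p_dvd)
    have := hv ⟨0, by omega⟩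
    rwa [hH _ (inv_mem (sq_mem_H hd hs)), hH _ (hxH _), one_mul, mul_one] at this
  obtain ⟨b, hb, hg⟩ := hd.exists_rep g
  have hgb : c g = c b := by
    show LinearMap.trace ℂ _ (T ρ U g) = LinearMap.trace ℂ _ (T ρ U b)
    rw [T_congr ρ U hg]
  rw [hd.cellW_eq_of_mem hb hg, ← cellW_N hb, hgb]
  clear hgb hg
  induction hk : len P (cellW P b) generalizing b with
  | zero =>
    rw [hH b (Subgroup.mem_inf.2 ⟨(mem_C_one_iff P).1 (by
        rw [← wlen_eq_zero (sigma_sq P) (closure_sigma P) hk]; exact mem_cellW P b), hb⟩), pow_zero]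
  | succ k ih =>
    obtain ⟨s, hs, b', hb', hk', -, e⟩ := exists_split hd ρ hb hk
    rw [← hmul e.symm, hs1 s hs, ih b' hb' hk', pow_succ']

theorem character_eq [ρ.IsIrreducible] (hdeg : Nat.card U ∣ n) (hbig : Nat.card U = q ^ len P (w0 P))
    (hgen : GenTorus P U) (x : G) : ρ.character x = (Nat.card U : ℂ) / Nat.card G *
      ∑ y : G, (-1 : ℂ) ^ len P (cellW P (y⁻¹ * x * y)) / (orb U (y⁻¹ * x * y) : ℂ) := by
  classical
  haveI : Finite (DoubleCoset.Quotient (U : Set G) U) := Quotient.finite _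
  letI := Fintype.ofFinite (DoubleCoset.Quotient (U : Set G) U)
  have hW := finrank_W_eq_one hd ρ hdeg
  have hnU : (n : ℂ) = Nat.card U := by rw [finrank_W hd ρ hdeg, hW, Nat.cast_one, mul_one]
  have havg : LinearMap.trace ℂ _ (avg ρ U) = 1 := by
    rw [← subtype_proj, LinearMap.trace_comp_comm', proj_subtype]
    show LinearMap.trace ℂ (W ρ U) 1 = 1
    rw [LinearMap.trace_one, hW, Nat.cast_one]
  have h := congrArg (fun a => LinearMap.trace ℂ _ (ρ x * a)) (schur_conj ρ (avg ρ U))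
  simp only [Finset.mul_sum, map_sum, mul_smul_comm, mul_one, map_smul, havg, smul_eq_mul] at h
  have hG : (Nat.card G : ℂ) ≠ 0 := Nat.cast_ne_zero.2 Nat.card_pos.ne'
  have hU : (Nat.card U : ℂ) ≠ 0 := Nat.cast_ne_zero.2 Nat.card_pos.ne'
  rw [hnU] at h
  have hterm : ∀ y : G, LinearMap.trace ℂ _ (ρ x * (ρ y * avg ρ U * ρ y⁻¹)) =
      (-1 : ℂ) ^ len P (cellW P (y⁻¹ * x * y)) / (orb U (y⁻¹ * x * y) : ℂ) := by
    intro y
    rw [← scalar_eq hd ρ hdeg hbig hgen, scal, T, map_smul, smul_eq_mul,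
      mul_div_cancel_left₀ _ (Nat.cast_ne_zero.2 (orb_pos U _).ne'), op, LinearMap.trace_comp_comm',
      LinearMap.comp_assoc, subtype_proj, ← Module.End.mul_eq_comp,
      show ρ (y⁻¹ * x * y) = ρ y⁻¹ * ρ x * ρ y by rw [map_mul, map_mul]]
    conv_rhs => rw [mul_assoc, mul_assoc, LinearMap.trace_mul_comm]
    simp only [mul_assoc]
  rw [Finset.sum_congr rfl fun y _ => hterm y] at h
  rw [h]
  show LinearMap.trace ℂ _ (ρ x) = _
  field_simp

omit [Fintype U] in
/-- There is only one irreducible character whose degree is divisible by `|U|`. -/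
theorem eq_of_defect_zero (hbig : Nat.card U = q ^ len P (w0 P)) (hgen : GenTorus P U)
    {χ ψ : G → ℂ} (hχ : IsIrrCharacter G χ) (hψ : IsIrrCharacter G ψ)
    (hχd : ∃ d : ℕ, χ 1 = d ∧ Nat.card U ∣ d) (hψd : ∃ d : ℕ, ψ 1 = d ∧ Nat.card U ∣ d) : χ = ψ := by
  letI := Fintype.ofFinite U
  obtain ⟨a, ρ, hρ, rfl⟩ := hχ
  obtain ⟨b, σ, hσ, rfl⟩ := hψ
  obtain ⟨d, hd1, hd2⟩ := hχd
  obtain ⟨e, he1, he2⟩ := hψd
  haveI := hρ
  haveI := hσ
  have ea : a = d := by simpa using hd1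
  have eb : b = e := by simpa using he1
  funext x
  rw [character_eq hd ρ (ea ▸ hd2) hbig hgen, character_eq hd σ (eb ▸ he2) hbig hgen]

end Cfsg.Agent.HeckeU
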